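import Mathlib.RingTheory.Noetherian.Basic
import Mathlib.RingTheory.Ideal.Span
import Mathlib.RingTheory.Ideal.Prime
import Mathlib.LinearAlgebra.FiniteDimensional.Lemmas
import Mathlib.LinearAlgebra.Quotient.Basic

/-!
# Limits of towers with surjective transition maps and countably generated modules
-/

universe u v

set_option autoImplicit false

namespace Groth.Agent.CountLim15

variable {A : Type u} [CommRing A]

/-- The elements killed by an element outside `P`. -/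
def torsAt (P : Ideal A) [P.IsPrime] (M : Type v) [AddCommGroup M] [Module A M] : Submodule A M where
  carrier := {x | ∃ u, u ∉ P ∧ u • x = 0}
  zero_mem' := ⟨1, fun h => (Ideal.IsPrime.ne_top ‹_›) ((Ideal.eq_top_iff_one _).2 h), smul_zero _⟩
  add_mem' := by
    rintro x y ⟨a, ha, hx⟩ ⟨b, hb, hy⟩
    refine ⟨a * b, fun h => (Ideal.IsPrime.mem_or_mem ‹_› h).elim ha hb, ?_⟩
    rw [smul_add, mul_smul, mul_smul, hy, smul_zero, add_zero, smul_comm, hx, smul_zero]
  smul_mem' := by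
    rintro c x ⟨a, ha, hx⟩
    exact ⟨a, ha, by rw [smul_comm, hx, smul_zero]⟩

theorem exists_prime_ann [IsNoetherianRing A] {M : Type v} [AddCommGroup M] [Module A M]
    (K : Submodule A M) (hK : K ≠ ⊥) :
    ∃ (P : Ideal A) (x : M), P.IsPrime ∧ x ∈ K ∧ ∀ u : A, u • x = 0 → u ∈ P := by
  obtain ⟨x₀, hx₀, hx₀0⟩ := (Submodule.ne_bot_iff K).1 hK
  obtain ⟨P, ⟨x, hx, hx0, rfl⟩, hmax⟩ := set_has_maximal_iff_noetherian.2 (inferInstance : IsNoetherian A A)
    {P : Ideal A | ∃ x ∈ K, x ≠ 0 ∧ LinearMap.ker (LinearMap.toSpanSingleton A M x) = P}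
    ⟨_, x₀, hx₀, hx₀0, rfl⟩
  refine ⟨LinearMap.ker (LinearMap.toSpanSingleton A M x), x, Ideal.isPrime_iff.2 ⟨fun h => hx0 ?_, ?_⟩, hx, fun u hu => LinearMap.mem_ker.2 (by simpa using hu)⟩
  · have h1 : (1 : A) ∈ LinearMap.ker (LinearMap.toSpanSingleton A M x) := by rw [h]; trivial
    simpa using h1
  · intro a b hab
    by_cases hb : b • x = 0
    · exact Or.inr hb
    left
    have hle : LinearMap.ker (LinearMap.toSpanSingleton A M x) ≤
        LinearMap.ker (LinearMap.toSpanSingleton A M (b • x)) := fun u hu => by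
      have hu' : u • x = 0 := hu
      show u • b • x = 0
      rw [smul_comm, hu', smul_zero]
    have heq := (hle.lt_or_eq).resolve_left (hmax _ ⟨b • x, K.smul_mem b hx, hb, rfl⟩)
    rw [heq]
    show a • b • x = 0
    rw [← mul_smul]
    exact hab

/-- An infinite family of primes accumulates at a prime. -/
theorem exists_accumulation [IsNoetherianRing A] (S : Set ℕ) (hS : S.Infinite) (p : ℕ → Ideal A)
    (hp : ∀ n ∈ S, (p n).IsPrime) :
    ∃ q : Ideal A, q.IsPrime ∧ {n | n ∈ S ∧ q ≤ p n}.Infinite ∧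
      ∀ f : A, f ∉ q → ∃ N, ∀ n ∈ S, q ≤ p n → N ≤ n → f ∉ p n := by
  obtain ⟨q, hq, hmax⟩ := set_has_maximal_iff_noetherian.2 (inferInstance : IsNoetherian A A)
    {J : Ideal A | {n | n ∈ S ∧ J ≤ p n}.Infinite} ⟨⊥, by simpa using hS⟩
  have hfin : ∀ f, f ∉ q → {n | n ∈ S ∧ q ≤ p n ∧ f ∈ p n}.Finite := fun f hf => by
    by_contra h
    have h' : {n | n ∈ S ∧ q ≤ p n ∧ f ∈ p n}.Infinite := h
    refine hmax (q ⊔ Ideal.span {f}) (h'.mono fun n hn => ⟨hn.1, sup_le hn.2.1 ?_⟩) ?_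
    · exact (Ideal.span_singleton_le_iff_mem _).2 hn.2.2
    · exact lt_of_le_of_ne le_sup_left fun e =>
        hf (by rw [e]; exact Ideal.mem_sup_right (Ideal.mem_span_singleton_self f))
  refine ⟨q, Ideal.isPrime_iff.2 ⟨fun h => ?_, fun {a b} hab => ?_⟩, hq, fun f hf => ?_⟩
  · obtain ⟨n, hn, hle⟩ := Set.Infinite.nonempty hq
    exact (hp n hn).ne_top (top_le_iff.1 (h ▸ hle))
  · by_contra hne
    push Not at hne
    refine hq (((hfin a hne.1).union (hfin b hne.2)).subset fun n hn => ?_)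
    rcases (hp n hn.1).mem_or_mem (hn.2 hab) with h | h
    · exact Or.inl ⟨hn.1, hn.2, h⟩
    · exact Or.inr ⟨hn.1, hn.2, h⟩
  · obtain ⟨N, hN⟩ := (hfin f hf).bddAbove
    exact ⟨N + 1, fun n hn hle hNn hfn => absurd (hN ⟨hn, hle, hfn⟩) (by omega)⟩

theorem exists_family (n : ℕ) : ∀ (M : ℕ → Type v) [∀ i, AddCommGroup (M i)] [∀ i, Module A (M i)]
    (t : ∀ i, M (i + 1) →ₗ[A] M i), (∀ i, Function.Surjective (t i)) → ∀ x : M n,
    ∃ s : ∀ i, M i, (∀ i, t i (s (i + 1)) = s i) ∧ s n = x := by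
  induction n with
  | zero =>
    intro M _ _ t ht x
    choose w hw using ht
    exact ⟨fun i => Nat.rec x (fun i z => w i z) i, fun i => hw i _, rfl⟩
  | succ n ih =>
    intro M _ _ t ht x
    obtain ⟨s, hs, hsn⟩ := ih (fun i => M (i + 1)) (fun i => t (i + 1)) (fun i => ht (i + 1)) x
    let r : ∀ i, M i := fun i => match i with
      | 0 => t 0 (s 0)
      | i + 1 => s i
    refine ⟨r, fun i => ?_, hsn⟩
    rcases i with _ | i
    · rfl
    · exact hs i

variable {k : Type u} [Field k] (σ : k →+* A) {M : ℕ → Type v} [∀ i, AddCommGroup (M i)]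
  [∀ i, Module A (M i)] (t : ∀ i, M (i + 1) →ₗ[A] M i) {G : Type v} [AddCommGroup G] [Module A G]
  {R : ℕ → Type v} [∀ i, AddCommGroup (R i)] [∀ i, Module A (R i)] (ι : ∀ i, M (i + 1) →ₗ[A] R i)
  (ψ : ∀ i, G →ₗ[A] R i) (p : ℕ → Ideal A) [∀ n, (p n).IsPrime] (S : Set ℕ)
  {Y : Type u} [AddCommGroup Y] [Module k Y] (L : Y →ₛₗ[σ] A) (φ : Y →ₛₗ[σ] G)

/-- The coefficient vectors solving the lifting equations up to level `N`. -/
def sol (s : ∀ i, M i) (J₀ N : ℕ) : Submodule k Y where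
  carrier := {x | ∀ n ∈ S, J₀ ≤ n → n + 1 ≤ N → L x • ι n (s (n + 1)) = ψ n (φ x)}
  zero_mem' := fun n _ _ _ => by simp
  add_mem' := fun {x y} hx hy n hn h1 h2 => by
    rw [map_add, map_add, map_add, add_smul, hx n hn h1 h2, hy n hn h1 h2]
  smul_mem' := fun c x hx n hn h1 h2 => by
    rw [map_smulₛₗ, map_smulₛₗ, map_smul, smul_eq_mul, mul_smul, hx n hn h1 h2]

variable (ht : ∀ i, Function.Surjective (t i)) {q : Ideal A}
  (hS : ∀ f : A, f ∉ q → ∃ N, ∀ n ∈ S, N ≤ n → f ∉ p n) (hSinf : S.Infinite)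
  (d : ∀ n, M (n + 1)) (hd0 : ∀ n ∈ S, t n (d n) = 0) (hd : ∀ n ∈ S, ∀ u : A, ι n (u • d n) = 0 → u ∈ p n)

include ht hS hSinf hd0 hd in
theorem exists_defeat [Module.Finite k Y] (J₀ : ℕ) : ∀ (r N : ℕ) (s : ∀ i, M i),
    (∀ i, t i (s (i + 1)) = s i) → Module.finrank k ↥(sol σ ι ψ S L φ s J₀ N) ≤ r →
    ∃ (N' : ℕ) (s' : ∀ i, M i), N ≤ N' ∧ (∀ i, t i (s' (i + 1)) = s' i) ∧ (∀ i ≤ N, s' i = s i) ∧
      ∀ x ∈ sol σ ι ψ S L φ s' J₀ N', L x ∈ q := by
  intro r
  induction r with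
  | zero =>
    intro N s hs hr
    refine ⟨N, s, le_rfl, hs, fun _ _ => rfl, fun x hx => ?_⟩
    rw [Submodule.finrank_eq_zero.1 (Nat.le_zero.1 hr), Submodule.mem_bot] at hx
    rw [hx, map_zero]
    exact q.zero_mem
  | succ r ih =>
    intro N s hs hr
    by_cases hall : ∀ x ∈ sol σ ι ψ S L φ s J₀ N, L x ∈ q
    · exact ⟨N, s, le_rfl, hs, fun _ _ => rfl, hall⟩
    push Not at hall
    obtain ⟨x₀, hx₀, hLx₀⟩ := hall
    obtain ⟨N₁, hN₁⟩ := hS _ hLx₀
    obtain ⟨n, hn, hnN⟩ := hSinf.exists_gt (max (max N J₀) N₁)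
    obtain ⟨δ, hδ, hδn⟩ := exists_family (n + 1) M t ht (d n)
    have hδ0 : ∀ i ≤ n, δ i = 0 := by
      have h : ∀ j i, i + j = n → δ i = 0 := by
        intro j
        induction j with
        | zero =>
          intro i hi
          obtain rfl : i = n := by omega
          rw [← hδ i, hδn, hd0 i hn]
        | succ j ih' =>
          intro i hi
          rw [← hδ i, ih' (i + 1) (by omega), map_zero]
      exact fun i hi => h (n - i) i (by omega)
    have hagree : ∀ (s₁ : ∀ i, M i), (∀ i ≤ N, s₁ i = s i) →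
        sol σ ι ψ S L φ s₁ J₀ (n + 1) ≤ sol σ ι ψ S L φ s J₀ N := fun s₁ h x hx m hm h1 h2 => by
      rw [← h (m + 1) h2]
      exact hx m hm h1 (by omega)
    let s₂ : ∀ i, M i := fun i => s i + δ i
    have hs₂ : ∀ i ≤ N, s₂ i = s i := fun i hi => by
      show s i + δ i = s i
      rw [hδ0 i (by omega), add_zero]
    have hnot : x₀ ∉ sol σ ι ψ S L φ s J₀ (n + 1) ∨ x₀ ∉ sol σ ι ψ S L φ s₂ J₀ (n + 1) := by
      by_contra h
      push Not at h
      have h1 := h.1 n hn (by omega) le_rfl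
      have h2 := h.2 n hn (by omega) le_rfl
      have h3 : ι n (L x₀ • d n) = 0 := by
        rw [← sub_self (ψ n (φ x₀)), map_smul]
        conv_rhs => lhs; rw [← h2]
        conv_rhs => rhs; rw [← h1]
        show _ = L x₀ • ι n (s (n + 1) + δ (n + 1)) - L x₀ • ι n (s (n + 1))
        rw [hδn, map_add, smul_add, add_sub_cancel_left]
      exact hN₁ n hn (by omega) (hd n hn _ h3)
    rcases hnot with hnot | hnot
    · have hlt : Module.finrank k ↥(sol σ ι ψ S L φ s J₀ (n + 1)) < Module.finrank k ↥(sol σ ι ψ S L φ s J₀ N) :=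
        Submodule.finrank_lt_finrank_of_lt (lt_of_le_not_ge (hagree s fun _ _ => rfl) fun h => hnot (h hx₀))
      obtain ⟨N', s', hN', hs', hag, hq⟩ := ih (n + 1) s hs (by omega)
      exact ⟨N', s', by omega, hs', fun i hi => hag i (by omega), hq⟩
    · have hlt : Module.finrank k ↥(sol σ ι ψ S L φ s₂ J₀ (n + 1)) < Module.finrank k ↥(sol σ ι ψ S L φ s J₀ N) :=
        Submodule.finrank_lt_finrank_of_lt (lt_of_le_not_ge (hagree s₂ hs₂) fun h => hnot (h hx₀))
      obtain ⟨N', s', hN', hs', hag, hq⟩ := ih (n + 1) s₂ (fun i => by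
        show t i (s (i + 1) + δ (i + 1)) = s i + δ i
        rw [map_add, hs, hδ]) (by omega)
      exact ⟨N', s', by omega, hs', fun i hi => (hag i (by omega)).trans (hs₂ i hi), hq⟩

omit [AddCommGroup Y] [Module k Y] in
include ht hS hSinf hd0 hd in
/-- A compatible family defeating all lifting problems near `q`. -/
theorem exists_diag (B : ℕ → A)
    (hB : ∀ a : A, ∃ (m : ℕ) (c : ℕ → k), a = ∑ l ∈ Finset.range m, σ (c l) * B l)
    (g : ℕ → G) (hg : Submodule.span A (Set.range g) = ⊤) :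
    ∃ s : ∀ i, M i, (∀ i, t i (s (i + 1)) = s i) ∧
      ∀ F : A, F ∉ q → ∀ (y : G) (J : ℕ), ¬ ∀ n ∈ S, J ≤ n → F • ι n (s (n + 1)) = ψ n y := by
  classical
  let lc : ∀ D : ℕ, (Fin D → k) →ₛₗ[σ] A := fun D =>
    { toFun := fun c => ∑ l, σ (c l) * B l
      map_add' := fun x y => by simp [add_mul, Finset.sum_add_distrib]
      map_smul' := fun c x => by simp [Finset.mul_sum, mul_assoc] }
  let Lm : ∀ D : ℕ, (Option (Fin D) → Fin D → k) →ₛₗ[σ] A := fun D =>
    (lc D).comp (LinearMap.proj none)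
  let φm : ∀ D : ℕ, (Option (Fin D) → Fin D → k) →ₛₗ[σ] G := fun D =>
    { toFun := fun x => ∑ i, lc D (x (some i)) • g i
      map_add' := fun x y => by simp [Finset.sum_add_distrib, add_smul]
      map_smul' := fun c x => by
        simp only [Pi.smul_apply, map_smulₛₗ, smul_eq_mul, mul_smul, Finset.smul_sum] }
  have step : ∀ (i : ℕ) (st : {st : ℕ × (∀ j, M j) // ∀ j, t j (st.2 (j + 1)) = st.2 j}),
      ∃ st' : {st : ℕ × (∀ j, M j) // ∀ j, t j (st.2 (j + 1)) = st.2 j},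
        st.1.1 < st'.1.1 ∧ (∀ j ≤ st.1.1, st'.1.2 j = st.1.2 j) ∧
        ∀ x ∈ sol σ ι ψ S (Lm i.unpair.1) (φm i.unpair.1) st'.1.2 i.unpair.2 st'.1.1,
          Lm i.unpair.1 x ∈ q := by
    rintro i ⟨⟨N, s⟩, hs⟩
    obtain ⟨N', s', hN', hs', hag, hq'⟩ := exists_defeat σ t ι ψ p S (Lm i.unpair.1) (φm i.unpair.1) ht
      hS hSinf d hd0 hd i.unpair.2 _ (N + 1) s hs le_rfl
    exact ⟨⟨⟨N', s'⟩, hs'⟩, by show N < N'; omega, fun j hj => hag j (by
      have : j ≤ N := hj
      omega), hq'⟩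
  choose next hnext hagree hdefeat using step
  let st : ℕ → {st : ℕ × (∀ j, M j) // ∀ j, t j (st.2 (j + 1)) = st.2 j} := fun i =>
    Nat.rec ⟨(0, fun j => 0), fun j => map_zero _⟩ (fun i z => next i z) i
  have hN : ∀ i, i ≤ (st i).1.1 := by
    intro i
    induction i with
    | zero => exact Nat.zero_le _
    | succ i ih => exact lt_of_le_of_lt ih (hnext i (st i))
  have hmono : ∀ i l, i ≤ l → (st i).1.1 ≤ (st l).1.1 ∧ ∀ j ≤ (st i).1.1, (st l).1.2 j = (st i).1.2 j := by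
    intro i l hil
    induction l, hil using Nat.le_induction with
    | base => exact ⟨le_rfl, fun _ _ => rfl⟩
    | succ l _ ih =>
      exact ⟨ih.1.trans (hnext l (st l)).le, fun j hj => (hagree l (st l) j (hj.trans ih.1)).trans (ih.2 j hj)⟩
  let s : ∀ j, M j := fun j => (st j).1.2 j
  have hs : ∀ i j, j ≤ (st i).1.1 → s j = (st i).1.2 j := fun i j hj => by
    rcases le_total i j with h | h
    · exact (hmono i j h).2 j hj
    · exact ((hmono j i h).2 j (hN j)).symm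
  refine ⟨s, fun j => ?_, fun F hF y J hy => ?_⟩
  · have h := (st (j + 1)).2 j
    show t j (s (j + 1)) = s j
    rw [hs (j + 1) j ((Nat.le_succ j).trans (hN (j + 1)))]
    exact h
  obtain ⟨c, hc⟩ := (Finsupp.mem_span_range_iff_exists_finsupp).1 (hg ▸ Submodule.mem_top : y ∈ Submodule.span A (Set.range g))
  choose mB cB hcB using hB
  let D : ℕ := (insert F (c.support.image c)).sup mB + c.support.sup id + 1
  have hlc : ∀ a ∈ insert F (c.support.image c), ∃ v : Fin D → k, lc D v = a := fun a ha => by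
    refine ⟨fun l => if (l : ℕ) < mB a then cB a l else 0, ?_⟩
    have hle : mB a ≤ D := (Finset.le_sup (f := mB) ha).trans (by omega)
    show ∑ l : Fin D, σ (if (l : ℕ) < mB a then cB a l else 0) * B l = a
    rw [Fin.sum_univ_eq_sum_range (fun l => σ (if l < mB a then cB a l else 0) * B l) D]
    conv_rhs => rw [hcB a]
    symm
    refine Finset.sum_congr_of_eq_on_inter (fun l _ hl => ?_) (fun l hl hl' => ?_) (fun l hl _ => ?_)
    · exact absurd (Finset.mem_range.2 (lt_of_lt_of_le (Finset.mem_range.1 ‹_›) hle)) hl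
    · rw [if_neg (fun h => hl' (Finset.mem_range.2 h)), map_zero, zero_mul]
    · rw [if_pos (Finset.mem_range.1 hl)]
  choose v hv using hlc
  let x : Option (Fin D) → Fin D → k := fun o => match o with
    | none => v F (Finset.mem_insert_self _ _)
    | some i => if h : (i : ℕ) ∈ c.support then
        v (c i) (Finset.mem_insert_of_mem (Finset.mem_image_of_mem _ h)) else 0
  have hLx : Lm D x = F := hv F _
  have hφx : φm D x = y := by
    show ∑ i : Fin D, lc D (x (some i)) • g i = y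
    have h1 : ∀ i : Fin D, lc D (x (some i)) = c i := fun i => by
      show lc D (if h : (i : ℕ) ∈ c.support then _ else 0) = _
      split_ifs with h
      · exact hv _ _
      · rw [map_zero, Finsupp.notMem_support_iff.1 h]
    simp only [h1]
    rw [Fin.sum_univ_eq_sum_range (fun i => c i • g i) D, ← hc]
    refine (Finsupp.sum_of_support_subset c (fun i hi => Finset.mem_range.2 ?_) (fun i a => a • g i)
      (fun i _ => zero_smul A (g i))).symm
    have : id i ≤ c.support.sup id := Finset.le_sup (f := id) hi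
    simp only [id] at this
    omega
  let i := Nat.pair D J
  have hi : i.unpair = (D, J) := Nat.unpair_pair D J
  have key := hdefeat i (st i)
  rw [hi] at key
  refine hF ((congrArg (· ∈ q) hLx).mp (key x fun n hn h1 h2 => ?_))
  rw [show (next i (st i)).1.2 (n + 1) = s (n + 1) from (hs (i + 1) (n + 1) h2).symm, hLx, hφx]
  exact hy n hn h1

omit [AddCommGroup Y] [Module k Y] in
include ht in
/-- If the tower is not eventually constant, some compatible family has no local lift near a prime. -/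
theorem exists_unliftable [IsNoetherianRing A] (B : ℕ → A)
    (hB : ∀ a : A, ∃ (m : ℕ) (c : ℕ → k), a = ∑ l ∈ Finset.range m, σ (c l) * B l)
    (π : ∀ i, G →ₗ[A] M i) (g : ℕ → G) (hg : Submodule.span A (Set.range g) = ⊤)
    (hninj : ∀ N, ∃ n, N ≤ n ∧ ¬ Function.Injective (t n)) :
    ∃ q : Ideal A, q.IsPrime ∧ ∃ s : ∀ i, M i, (∀ i, t i (s (i + 1)) = s i) ∧
      ∀ F : A, F ∉ q → ∀ y : G, ¬ ∀ n, ∃ m : ℕ, F ^ m • (F • s n - π n y) = 0 := by
  classical
  let S₀ : Set ℕ := {n | ¬ Function.Injective (t n)}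
  have hS₀ : S₀.Infinite := fun h => by
    obtain ⟨N, hN⟩ := h.bddAbove
    obtain ⟨n, hn, hn'⟩ := hninj (N + 1)
    exact absurd (hN hn') (by omega)
  obtain ⟨P₀, hP₀⟩ : ∃ P : Ideal A, P.IsPrime := by
    obtain ⟨n, hn⟩ := hS₀.nonempty
    obtain ⟨P, -, hP, -⟩ := exists_prime_ann (LinearMap.ker (t n)) fun h => hn (LinearMap.ker_eq_bot.1 h)
    exact ⟨P, hP⟩
  have hex : ∀ n, ∃ (P : Ideal A) (x : M (n + 1)), P.IsPrime ∧
      (n ∈ S₀ → t n x = 0 ∧ ∀ u : A, u • x = 0 → u ∈ P) := fun n => by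
    by_cases hn : n ∈ S₀
    · obtain ⟨P, x, hP, hx, hu⟩ := exists_prime_ann (LinearMap.ker (t n)) fun h => hn (LinearMap.ker_eq_bot.1 h)
      exact ⟨P, x, hP, fun _ => ⟨LinearMap.mem_ker.1 hx, hu⟩⟩
    · exact ⟨P₀, 0, hP₀, fun h => absurd h hn⟩
  choose P d hP hPd using hex
  haveI : ∀ n, (P n).IsPrime := hP
  obtain ⟨q, hq, hS, hev⟩ := exists_accumulation S₀ hS₀ P fun n _ => hP n
  refine ⟨q, hq, ?_⟩
  obtain ⟨s, hs, hbad⟩ := exists_diag σ t (fun n => (torsAt (P n) (M (n + 1))).mkQ)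
    (fun n => (torsAt (P n) (M (n + 1))).mkQ.comp (π (n + 1))) P {n | n ∈ S₀ ∧ q ≤ P n} ht
    (fun f hf => (hev f hf).imp fun N h n hn => h n hn.1 hn.2) hS d (fun n hn => (hPd n hn.1).1)
    (fun n hn u hu => by
      obtain ⟨v, hv, h⟩ := (Submodule.Quotient.mk_eq_zero _).1 hu
      rw [← mul_smul] at h
      exact ((hP n).mem_or_mem ((hPd n hn.1).2 _ h)).resolve_left hv) B hB g hg
  refine ⟨s, hs, fun F hF y hy => ?_⟩
  obtain ⟨N, hN⟩ := hev F hF
  refine hbad F hF y N fun n hn h1 => ?_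
  obtain ⟨m, hm⟩ := hy (n + 1)
  rw [← map_smul]
  exact (Submodule.Quotient.eq _).2 ⟨F ^ m, fun h => hN n hn.1 hn.2 h1 ((hP n).mem_of_pow_mem m h), hm⟩

end Groth.Agent.CountLim15
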