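import Groth.Agent.Lib.CountLim15.Lift
import Groth.Agent.Lib.CurveCoh17.TensorExact

/-!
# Towers with countably generated quasi-coherent limit
-/

set_option autoImplicit false
set_option linter.style.haveILetI false

universe u

open CategoryTheory CategoryTheory.Limits AlgebraicGeometry Opposite TopologicalSpace MonoidalCategory
open Groth.Agent.M2 Groth.Agent.CurveCoh17

namespace Groth.Agent.CountLim15

variable {X : Scheme.{u}} (F : ℕᵒᵖ ⥤ X.Modules)

theorem exists_mono_π [CompactSpace X] (k : Type u) [Field k] (q : X ⟶ Spec (CommRingCat.of k))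
    [LocallyOfFiniteType q] (hF : ∀ n : ℕ, Coh.IsQCoh (F.obj (op n))) (hL : Coh.IsQCoh (limit F))
    (hLc : ∀ U : X.affineOpens, ∃ s : Set ((limit F).val.obj (op (U : X.Opens))),
        s.Countable ∧ Submodule.span (X.ringCatSheaf.obj.obj (op (U : X.Opens))) s = ⊤) :
    ∃ N : ℕ, ∀ n, N ≤ n → Mono (limit.π F (op n)) := by
  obtain ⟨N, hN⟩ := exists_isIso_transition k q (imageTower F (𝟙 (limit F))) (fun n => isQCoh_imageTower F (𝟙 _) hL (hF n))
    (imageCone F (𝟙 _)) hL hLc (fun n => inferInstanceAs (Epi (Abelian.factorThruImage (𝟙 (limit F) ≫ limit.π F (op n)))))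
    (epi_lift_imageCone F (𝟙 _))
  have hc : (imageTower F (𝟙 (limit F))).IsEventuallyConstantTo (op N) := by
    intro i f
    obtain ⟨i⟩ := i
    have hle : N ≤ i := leOfHom f.unop
    rw [show f = (homOfLE hle).op from Quiver.Hom.unop_inj (Subsingleton.elim _ _)]
    clear f
    induction i, hle using Nat.le_induction with
    | base =>
      rw [show (homOfLE (le_refl N)).op = 𝟙 (op N) from rfl, CategoryTheory.Functor.map_id]
      infer_instance
    | succ m hm ih =>
      haveI := hN m hm
      rw [mp_succ (imageTower F (𝟙 (limit F))) hm]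
      infer_instance
  haveI : IsIso (limit.π (imageTower F (𝟙 (limit F))) (op N)) := hc.isIso_π_of_isLimit (limit.isLimit (imageTower F (𝟙 (limit F))))
  let e : limit (imageTower F (𝟙 (limit F))) ≅ limit F :=
    @asIso _ _ _ _ (limMap (imageTowerι F (𝟙 (limit F)))) (isIso_limMap_imageTowerι F (𝟙 (limit F)))
  have hN' : Mono (limit.π F (op N)) := by
    have h2 : limit.π F (op N) = (e.inv ≫ limit.π (imageTower F (𝟙 (limit F))) (op N)) ≫
        (imageTowerι F (𝟙 (limit F))).app (op N) := by
      rw [Category.assoc, ← limMap_π]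
      exact (e.inv_hom_id_assoc _).symm
    rw [h2]
    haveI : Mono ((imageTowerι F (𝟙 (limit F))).app (op N)) :=
      inferInstanceAs (Mono (Abelian.image.ι (𝟙 (limit F) ≫ limit.π F (op N))))
    infer_instance
  refine ⟨N, fun n hn => ?_⟩
  exact mono_of_mono_fac (limit.w F (homOfLE hn).op)

theorem tensorModMap_eq {A B : X.Modules} (f : A ⟶ B) (E : X.Modules) :
    LimSh.tensorModMap f E = tensorMap f (𝟙 E) := by
  unfold LimSh.tensorModMap tensorMap
  congr 1

theorem mono_tensorModMap {A B : X.Modules} (f : A ⟶ B) [Mono f] {E : X.Modules} (hE : FlatMod.IsFlat E) :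
    Mono (LimSh.tensorModMap f E) := by
  rw [tensorModMap_eq]
  exact (shortExact_tensorR (S := ShortComplex.mk f (cokernel.π f) (cokernel.condition _))
    { exact := ShortComplex.exact_of_g_is_cokernel _ (cokernelIsCokernel _) } E hE).mono_f

/-- Functors commute with the limit of a tower whose transitions factor through the limit. -/
theorem isIso_post_of_factor {D : Type*} [Category* D] (T : X.Modules ⥤ D) [HasLimit (F ⋙ T)] (N : ℕ)
    (hmono : ∀ n, N ≤ n → Mono (limit.π F (op n)))
    (hρ : ∀ n, N ≤ n → ∃ (d : ℕ) (hd : n ≤ d) (ρ : F.obj (op d) ⟶ limit F),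
      ρ ≫ limit.π F (op n) = F.map (homOfLE hd).op) :
    IsIso (limit.post F T) := by
  choose d hd ρ hρ using hρ
  haveI := hmono N le_rfl
  let j := d N le_rfl
  have key : ∀ n (hn : N ≤ n) (M : ℕ) (h : j ≤ M) (h' : d n hn ≤ M),
      F.map (homOfLE h).op ≫ ρ N le_rfl ≫ limit.π F (op n) = F.map (homOfLE ((hd n hn).trans h')).op := by
    intro n hn M h h'
    have e : F.map (homOfLE h).op ≫ ρ N le_rfl = F.map (homOfLE h').op ≫ ρ n hn := by
      refine (cancel_mono (limit.π F (op N))).1 ?_
      rw [Category.assoc, Category.assoc, hρ, ← limit.w F (homOfLE hn).op, ← Category.assoc (ρ n hn), hρ,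
        ← F.map_comp, ← F.map_comp, ← F.map_comp]
      congr 1
    rw [← Category.assoc, e, Category.assoc, hρ, ← F.map_comp]
    congr 1
  refine ⟨limit.π (F ⋙ T) (op j) ≫ T.map (ρ N le_rfl), ?_, ?_⟩
  · rw [← Category.assoc, limit.post_π, ← T.map_comp]
    rw [show limit.π F (op j) ≫ ρ N le_rfl = 𝟙 (limit F) from (cancel_mono (limit.π F (op N))).1 (by
      rw [Category.assoc, hρ, limit.w, Category.id_comp])]
    exact T.map_id _
  · refine limit.hom_ext fun n => ?_
    obtain ⟨n⟩ := n
    have hn : N ≤ max n N := le_max_right _ _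
    let M := max j (d (max n N) hn)
    rw [Category.assoc, limit.post_π, Category.id_comp, Category.assoc, ← T.map_comp,
      ← limit.w (F ⋙ T) (homOfLE (le_max_left j (d (max n N) hn))).op, Category.assoc]
    show limit.π (F ⋙ T) (op M) ≫ T.map (F.map (homOfLE (le_max_left j _)).op) ≫ T.map (ρ N le_rfl ≫ limit.π F (op n)) = _
    rw [← T.map_comp, ← limit.w F (homOfLE (le_max_left n N)).op, ← Category.assoc (ρ N le_rfl), ← Category.assoc,
      key _ hn M (le_max_left _ _) (le_max_right _ _), ← F.map_comp]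
    rw [← limit.w (F ⋙ T) ((homOfLE ((hd (max n N) hn).trans (le_max_right j _))).op ≫ (homOfLE (le_max_left n N)).op)]
    rfl

theorem exists_factor_π (hF : ∀ n : ℕ, Coh.IsQCoh (F.obj (op n)))
    (hML : ∀ n : ℕ, ∃ (m : ℕ) (hm : n ≤ m), ∀ (m' : ℕ) (hm' : m ≤ m'),
      imageSubobject (F.map (homOfLE (hm.trans hm')).op) = imageSubobject (F.map (homOfLE hm).op))
    (n : ℕ) [Mono (limit.π F (op n))] :
    ∃ (d : ℕ) (hd : n ≤ d) (ρ : F.obj (op d) ⟶ limit F), ρ ≫ limit.π F (op n) = F.map (homOfLE hd).op := by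
  obtain ⟨d, hd, he⟩ := exists_imageSubobject_π_eq F hF hML n
  rw [imageSubobject_mono] at he
  refine ⟨d, hd, factorThruImageSubobject (F.map (homOfLE hd).op) ≫ Subobject.ofLE _ _ he.ge ≫
    (Subobject.underlyingIso (limit.π F (op n))).hom, ?_⟩
  simp

end Groth.Agent.CountLim15
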