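import Groth.Agent.Lib.CountLim15.Tower
import Mathlib.LinearAlgebra.Finsupp.LinearCombination
import Mathlib.LinearAlgebra.Prod

/-!
# A countably generated quasi-coherent `lim¹` forces the Mittag-Leffler condition
-/

set_option autoImplicit false
set_option linter.style.haveILetI false

universe u

open CategoryTheory CategoryTheory.Limits AlgebraicGeometry Opposite TopologicalSpace

namespace Groth.Agent.CountLim15

variable {X : Scheme.{u}} (F : ℕᵒᵖ ⥤ X.Modules)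

/-- A morphism on sections, as a linear map. -/
noncomputable def appLin {M N : X.Modules} (φ : M ⟶ N) (V : X.Opens) : Γ(M, V) →ₗ[Γ(X, V)] Γ(N, V) where
  toFun x := φ.app V x
  map_add' _ _ := map_add _ _ _
  map_smul' r x := Scheme.Modules.Hom.app_smul _ r x

/-- The partial sums at level `n`. -/
noncomputable def psum (V : X.Opens) (n m : ℕ) :
    Γ(∏ᶜ fun n : ℕ => F.obj (op n), V) →ₗ[Γ(X, V)] Γ(F.obj (op n), V) :=
  ∑ j ∈ Finset.Ico n m, if hj : n ≤ j then (trans F V hj).comp (appLin (Pi.π (fun n : ℕ => F.obj (op n)) j) V) else 0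

theorem psum_apply (V : X.Opens) (n m : ℕ) (ξ : Γ(∏ᶜ fun n : ℕ => F.obj (op n), V)) :
    psum F V n m ξ = ∑ j ∈ Finset.Ico n m,
      if hj : n ≤ j then trans F V hj ((Pi.π (fun n : ℕ => F.obj (op n)) j).app V ξ) else 0 := by
  simp only [psum, LinearMap.coe_sum, Finset.sum_apply]
  refine Finset.sum_congr rfl fun j _ => ?_
  split_ifs <;> rfl

theorem psum_mres {V W : X.Opens} (i : W ≤ V) (n m : ℕ) (ξ : Γ(∏ᶜ fun n : ℕ => F.obj (op n), V)) :
    psum F W n m (M1.mres _ i ξ) = M1.mres _ i (psum F V n m ξ) := by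
  rw [psum_apply, psum_apply, map_sum]
  refine Finset.sum_congr rfl fun j _ => ?_
  split_ifs
  · rw [M1.app_mres, trans_mres]
  · rw [map_zero]

theorem primeIdealOf_fromSpec {U : X.Opens} (hU : IsAffineOpen U) (P : PrimeSpectrum Γ(X, U))
    (h : hU.fromSpec P ∈ U) : (hU.primeIdealOf ⟨hU.fromSpec P, h⟩).asIdeal = P.asIdeal :=
  congrArg PrimeSpectrum.asIdeal (hU.fromSpec.isOpenEmbedding.injective (hU.fromSpec_primeIdealOf _))

theorem mem_basicOpen_fromSpec_iff {U : X.Opens} (hU : IsAffineOpen U) (P : PrimeSpectrum Γ(X, U))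
    (f : Γ(X, U)) : hU.fromSpec P ∈ X.basicOpen f ↔ f ∉ P.asIdeal := by
  show P ∈ hU.fromSpec ⁻¹ᵁ X.basicOpen f ↔ _
  rw [hU.fromSpec_preimage_basicOpen]
  rfl

theorem mem_finsetInf {ι : Type*} (s : Finset ι) (V : ι → X.Opens) (x : X) (h : ∀ i ∈ s, x ∈ V i) :
    x ∈ s.inf V :=
  Finset.inf_induction (p := fun W : X.Opens => x ∈ W) trivial (fun _ ha _ hb => ⟨ha, hb⟩) h

variable (k : Type u) [Field k] (q : X ⟶ Spec (CommRingCat.of k)) [LocallyOfFiniteType q]

include q in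
theorem ml_sections_of_countable (hF : ∀ n : ℕ, Coh.IsQCoh (F.obj (op n))) {U : X.Opens} (hU : IsAffineOpen U)
    (hFc : ∀ n : ℕ, ∃ s : Set ((F.obj (op n)).val.obj (op U)),
      s.Countable ∧ Submodule.span (X.ringCatSheaf.obj.obj (op U)) s = ⊤)
    (hLc : ∃ s : Set ((LimSh.limOneSh F).val.obj (op U)),
      s.Countable ∧ Submodule.span (X.ringCatSheaf.obj.obj (op U)) s = ⊤) (n : ℕ) :
    ∃ (m : ℕ) (hm : n ≤ m), ∀ (m' : ℕ) (hm' : m ≤ m') (x : Γ(F.obj (op m), U)),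
      ∃ y, trans F U (hm.trans hm') y = trans F U hm x := by
  classical
  haveI : IsLocallyNoetherian X := LocallyOfFiniteType.isLocallyNoetherian q
  haveI : IsNoetherianRing Γ(X, U) := IsLocallyNoetherian.component_noetherian ⟨U, hU⟩
  haveI := fun n => hF n
  by_contra hcon
  push Not at hcon
  let H := Γ(F.obj (op n), U)
  let I : ℕ → Submodule Γ(X, U) Γ(F.obj (op n), U) := fun m =>
    if h : n ≤ m then LinearMap.range (trans F U h) else ⊤
  have hI : ∀ (m : ℕ) (h : n ≤ m), I m = LinearMap.range (trans F U h) := fun m h => dif_pos h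
  have hIn : ∀ m, m ≤ n → I m = ⊤ := fun m h => by
    rcases h.lt_or_eq with h | h
    · exact dif_neg (by omega)
    · subst h
      rw [hI m le_rfl, LinearMap.range_eq_top]
      exact fun y => ⟨y, trans_self F U y⟩
  have hanti : ∀ m, I (m + 1) ≤ I m := fun m => by
    by_cases h : n ≤ m
    · rw [hI m h, hI (m + 1) (h.trans (Nat.le_succ m))]
      rintro _ ⟨a, rfl⟩
      exact ⟨trans F U (Nat.le_succ m) a, trans_trans F U h _ a⟩
    · rw [hIn m (by omega)]
      exact le_top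
  let M : ℕ → Type u := fun m => Γ(F.obj (op n), U) ⧸ I m
  let t : ∀ m, M (m + 1) →ₗ[Γ(X, U)] M m := fun m => Submodule.factor (hanti m)
  have ht : ∀ m, Function.Surjective (t m) := fun m => Submodule.factor_surjective (hanti m)
  let S₀ : Set ℕ := {m | n ≤ m ∧ ¬ I m ≤ I (m + 1)}
  have hS₀ : S₀.Infinite := by
    intro hfin
    obtain ⟨N, hN⟩ := hfin.bddAbove
    have hst : ∀ m, max n (N + 1) ≤ m → I (max n (N + 1)) ≤ I m := by
      intro m hm
      induction m, hm using Nat.le_induction with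
      | base => exact le_rfl
      | succ m hm ih =>
        refine ih.trans ?_
        by_contra hne
        have := hN (show m ∈ S₀ from ⟨by omega, hne⟩)
        omega
    obtain ⟨m', hm', a, ha⟩ := hcon (max n (N + 1)) (le_max_left _ _)
    have h1 : trans F U (le_max_left n (N + 1)) a ∈ I m' :=
      hst m' hm' (by rw [hI _ (le_max_left _ _)]; exact ⟨a, rfl⟩)
    rw [hI m' ((le_max_left _ _).trans hm')] at h1
    obtain ⟨y, hy⟩ := h1
    exact ha y hy
  have hker : ∀ m ∈ S₀, LinearMap.ker (t m) ≠ ⊥ := fun m hm hb => by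
    refine hm.2 fun a ha => (Submodule.Quotient.mk_eq_zero _).1 ?_
    rw [← Submodule.mem_bot Γ(X, U), ← hb, LinearMap.mem_ker]
    exact (Submodule.Quotient.mk_eq_zero _).2 ha
  obtain ⟨P₀, hP₀⟩ : ∃ P : Ideal Γ(X, U), P.IsPrime := by
    obtain ⟨m, hm⟩ := hS₀.nonempty
    obtain ⟨P, -, hP, -⟩ := exists_prime_ann (LinearMap.ker (t m)) (hker m hm)
    exact ⟨P, hP⟩
  have hex : ∀ m, ∃ (P : Ideal Γ(X, U)) (x : M (m + 1)), P.IsPrime ∧
      (m ∈ S₀ → t m x = 0 ∧ ∀ u : Γ(X, U), u • x = 0 → u ∈ P) := fun m => by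
    by_cases hm : m ∈ S₀
    · obtain ⟨P, x, hP, hx, hu⟩ := exists_prime_ann (LinearMap.ker (t m)) (hker m hm)
      exact ⟨P, x, hP, fun _ => ⟨LinearMap.mem_ker.1 hx, hu⟩⟩
    · exact ⟨P₀, 0, hP₀, fun h => absurd h hm⟩
  choose P d hP hPd using hex
  haveI : ∀ m, (P m).IsPrime := hP
  obtain ⟨Q, hQ, hS, hev⟩ := exists_accumulation S₀ hS₀ P fun m _ => hP m
  -- points
  let x : X := hU.fromSpec ⟨Q, hQ⟩
  let z : ℕ → X := fun m => hU.fromSpec ⟨P m, hP m⟩
  have hxU : x ∈ U := hU.range_fromSpec.subset (Set.mem_range_self _)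
  have hzU : ∀ m, z m ∈ U := fun m => hU.range_fromSpec.subset (Set.mem_range_self _)
  -- stalks
  let St : ℕ → Type u := fun m => (F.obj (op n)).presheaf.stalk (z m)
  letI iG : ∀ m, AddCommGroup (St m) := fun m => inferInstanceAs (AddCommGroup ((F.obj (op n)).presheaf.stalk (z m)))
  letI iM : ∀ m, Module Γ(X, U) (St m) := fun m => M1.stalkModule (F.obj (op n)) (hzU m)
  let gm : ∀ m, Γ(F.obj (op n), U) →ₗ[Γ(X, U)] St m := fun m => M1.germₗ (F.obj (op n)) (hzU m)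
  let W : ∀ m, Submodule Γ(X, U) (St m) := fun m => (I (m + 1)).map (gm m)
  let R : ℕ → Type u := fun m => (St m ⧸ W m) ⧸ torsAt (P m) (St m ⧸ W m)
  let mk : ∀ m, St m →ₗ[Γ(X, U)] R m := fun m => (torsAt (P m) (St m ⧸ W m)).mkQ.comp (W m).mkQ
  let ι : ∀ m, M (m + 1) →ₗ[Γ(X, U)] R m := fun m => (I (m + 1)).liftQ ((mk m).comp (gm m)) fun a ha => by
    rw [LinearMap.mem_ker]
    show (torsAt (P m) (St m ⧸ W m)).mkQ ((W m).mkQ (gm m a)) = 0
    rw [show (W m).mkQ (gm m a) = 0 from (Submodule.Quotient.mk_eq_zero _).2 (Submodule.mem_map_of_mem ha), map_zero]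
  have hd : ∀ m ∈ {m | m ∈ S₀ ∧ Q ≤ P m}, ∀ u : Γ(X, U), ι m (u • d m) = 0 → u ∈ P m := by
    intro m hm u hu
    obtain ⟨a, ha⟩ := Submodule.Quotient.mk_surjective _ (d m)
    rw [← ha] at hu
    have hu' : mk m (gm m (u • a)) = 0 := hu
    obtain ⟨v, hv, hv0⟩ := (Submodule.Quotient.mk_eq_zero _).1 hu'
    obtain ⟨i, hi, hi'⟩ := (Submodule.Quotient.mk_eq_zero _).1 (show Submodule.Quotient.mk (v • gm m (u • a)) = (0 : St m ⧸ W m) from hv0)
    have h0 : gm m (v • u • a - i) = 0 := by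
      rw [map_sub, hi', map_smul, map_smul, sub_self]
    obtain ⟨r, hr, hr0⟩ := M1.exists_smul_eq_zero_of_germ_eq_zero (F.obj (op n)) hU (hzU m) _ h0
    have hrP : r ∉ P m := by
      have h1 : r ∈ (hU.primeIdealOf ⟨z m, hzU m⟩).asIdeal.primeCompl := (M1.isUnit_germ_iff hU (hzU m) r).1 hr
      exact fun hr' => h1 ((SetLike.ext_iff.1 (primeIdealOf_fromSpec hU ⟨P m, hP m⟩ (hzU m)) r).2 hr')
    have h2 : (r * v * u) • d m = 0 := by
      rw [← ha, ← Submodule.Quotient.mk_smul, Submodule.Quotient.mk_eq_zero]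
      rw [smul_sub, sub_eq_zero] at hr0
      rw [mul_smul, mul_smul, hr0]
      exact Submodule.smul_mem _ _ hi
    exact ((hP m).mem_or_mem ((hPd m hm.1).2 _ h2)).resolve_left
      fun h => ((hP m).mem_or_mem h).elim hrP hv
  -- generators
  obtain ⟨ℓ, hℓ⟩ : ∃ g : ℕ → Γ(LimSh.limOneSh F, U), Submodule.span Γ(X, U) (Set.range g) = ⊤ := by
    obtain ⟨s, hs, hspan⟩ := hLc
    exact exists_range_span (A := Γ(X, U)) (M := Γ(LimSh.limOneSh F, U)) s hs hspan
  obtain ⟨gn, hgn⟩ : ∃ g : ℕ → Γ(F.obj (op n), U), Submodule.span Γ(X, U) (Set.range g) = ⊤ := by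
    obtain ⟨s, hs, hspan⟩ := hFc n
    exact exists_range_span (A := Γ(X, U)) (M := Γ(F.obj (op n), U)) s hs hspan
  let π₁ : (∏ᶜ fun n : ℕ => F.obj (op n)) ⟶ LimSh.limOneSh F := cokernel.π (LimSh.towerDiffSh F)
  haveI hπ₁ : Epi π₁ := inferInstanceAs (Epi (cokernel.π (LimSh.towerDiffSh F)))
  have hlift : ∀ i, ∃ (V : X.Opens) (hV : V ≤ U), x ∈ V ∧ ∃ l : Γ(∏ᶜ fun n : ℕ => F.obj (op n), V),
      π₁.app V l = M1.mres (LimSh.limOneSh F) hV (ℓ i) := fun i =>
    (M1.epi_iff_locally_surjective π₁).1 hπ₁ U (ℓ i) x hxU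
  choose V hVU hxV l hl using hlift
  let v : ℕ → ∀ m, R m := fun i m =>
    if h : z m ∈ V i then mk m ((F.obj (op n)).presheaf.germ (V i) (z m) h (psum F (V i) n (m + 1) (l i))) else 0
  let ψ : ∀ m, (ℕ →₀ Γ(X, U)) × Γ(F.obj (op n), U) →ₗ[Γ(X, U)] R m := fun m =>
    (Finsupp.linearCombination Γ(X, U) (fun i => v i m)).coprod ((mk m).comp (gm m))
  obtain ⟨g, hg⟩ : ∃ g : ℕ → (ℕ →₀ Γ(X, U)) × Γ(F.obj (op n), U), Submodule.span Γ(X, U) (Set.range g) = ⊤ := by
    refine exists_range_span (A := Γ(X, U)) (M := (ℕ →₀ Γ(X, U)) × Γ(F.obj (op n), U))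
      (LinearMap.inl Γ(X, U) (ℕ →₀ Γ(X, U)) Γ(F.obj (op n), U) '' Set.range (fun i => Finsupp.single i (1 : Γ(X, U))) ∪
        LinearMap.inr Γ(X, U) (ℕ →₀ Γ(X, U)) Γ(F.obj (op n), U) '' Set.range gn) (((Set.countable_range _).image _).union ((Set.countable_range _).image _)) ?_
    rw [Submodule.span_union, Submodule.span_image, Submodule.span_image, hgn,
      show Submodule.span Γ(X, U) (Set.range fun i : ℕ => Finsupp.single i (1 : Γ(X, U))) = ⊤ from
        by rw [← (Finsupp.basisSingleOne (R := Γ(X, U)) (ι := ℕ)).span_eq, Finsupp.coe_basisSingleOne], Submodule.map_top, Submodule.map_top, LinearMap.sup_range_inl_inr]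
  let σ : k →+* Γ(X, U) :=
    ((q.appLE ⊤ U le_top).hom).comp (Scheme.ΓSpecIso (CommRingCat.of k)).inv.hom
  have hσ : σ.FiniteType :=
    (q.finiteType_appLE (isAffineOpen_top _) hU le_top).comp
      (RingHom.FiniteType.of_surjective _
        (Scheme.ΓSpecIso (CommRingCat.of k)).symm.commRingCatIsoToRingEquiv.surjective)
  obtain ⟨B, hB⟩ := exists_spanning_seq σ hσ
  obtain ⟨s, hs, hbad⟩ := exists_diag σ t ι ψ P {m | m ∈ S₀ ∧ Q ≤ P m} ht
    (fun f hf => (hev f hf).imp fun N h m hm => h m hm.1 hm.2) hS d (fun m hm => (hPd m hm.1).1) hd B hB g hg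
  -- realise the family by a section of the product
  let sr : ℕ → Γ(F.obj (op n), U) := fun m =>
    if m ≤ n then 0 else Function.surjInv (Submodule.mkQ_surjective (I m)) (s m)
  have hsr : ∀ m, (I m).mkQ (sr m) = s m := fun m => by
    by_cases hm : m ≤ n
    · obtain ⟨a, ha⟩ := Submodule.mkQ_surjective (I m) (s m)
      rw [← ha, Submodule.mkQ_apply, Submodule.mkQ_apply, Submodule.Quotient.eq, hIn m hm]
      trivial
    · simp only [sr, if_neg hm]
      exact Function.surjInv_eq (Submodule.mkQ_surjective (I m)) (s m)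
  have hstep : ∀ j, ∃ a : Γ(F.obj (op j), U), ∀ h : n ≤ j, trans F U h a = sr (j + 1) - sr j := fun j => by
    by_cases h : n ≤ j
    · have h1 : sr (j + 1) - sr j ∈ LinearMap.range (trans F U h) := by
        rw [← hI j h, ← Submodule.Quotient.eq]
        show (I j).mkQ (sr (j + 1)) = (I j).mkQ (sr j)
        rw [hsr j, ← hs j, ← hsr (j + 1)]
        rfl
      obtain ⟨a, ha⟩ := h1
      exact ⟨a, fun _ => ha⟩
    · exact ⟨0, fun h' => absurd h' h⟩
  choose xj hxj using hstep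
  obtain ⟨ξ, hξ⟩ := exists_prod_section (fun n : ℕ => F.obj (op n)) U xj
  have hpsum : ∀ m, n ≤ m → psum F U n m ξ = sr m := by
    intro m hm
    rw [psum_apply]
    induction m, hm using Nat.le_induction with
    | base => simp [sr]
    | succ m hm ih => rw [Finset.sum_Ico_succ_top hm, ih, dif_pos hm, hξ, hxj m hm, add_sub_cancel]
  obtain ⟨c, hc⟩ := Finsupp.mem_span_range_iff_exists_finsupp.1
    (hℓ ▸ Submodule.mem_top : π₁.app U ξ ∈ Submodule.span Γ(X, U) (Set.range ℓ))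
  let V₀ : X.Opens := U ⊓ c.support.inf V
  have hxV₀ : x ∈ V₀ := ⟨hxU, mem_finsetInf _ _ _ fun i _ => hxV i⟩
  have hV₀i : ∀ i ∈ c.support, V₀ ≤ V i := fun i hi => inf_le_right.trans (Finset.inf_le hi)
  let ξ' : Γ(∏ᶜ fun n : ℕ => F.obj (op n), V₀) := M1.mres _ inf_le_left ξ -
    ∑ i ∈ c.support.attach, M1.ores (inf_le_left : V₀ ≤ U) (c i.1) • M1.mres _ (hV₀i i.1 i.2) (l i.1)
  have hker' : (M1.Sub.im (LimSh.towerDiffSh F)).mem V₀ ξ' := by
    rw [M1.Sub.im, M1.Sub.mem_ker]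
    show π₁.app V₀ ξ' = 0
    rw [map_sub, M1.app_mres, map_sum, ← hc, Finsupp.sum, map_sum, sub_eq_zero,
      ← Finset.sum_attach c.support]
    refine Finset.sum_congr rfl fun i _ => ?_
    rw [Scheme.Modules.Hom.app_smul, M1.app_mres, hl, M1.mres_mres, M1.mres_smul]
  obtain ⟨b, hb⟩ := hker'
  obtain ⟨V₁, hV₁, hxV₁, η, hη⟩ := (M1.epi_iff_locally_surjective _).1
    (M1.Sub.epi_toIm (LimSh.towerDiffSh F)) V₀ b x hxV₀
  obtain ⟨f, hfV, hxf⟩ := hU.exists_basicOpen_le (V := V₁) ⟨x, hxV₁⟩ hxU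
  have hdiff : (LimSh.towerDiffSh F).app (X.basicOpen f) (M1.mres _ hfV η) = M1.mres _ (hfV.trans hV₁) ξ' := by
    rw [M1.app_mres, ← M1.mres_mres _ hV₁ hfV, ← hb, ← M1.app_mres _ hV₁ b]
    congr 1
    refine Eq.trans ?_ (congrArg ((M1.Sub.im (LimSh.towerDiffSh F)).i.app V₁) hη)
    exact congrArg (fun φ : (∏ᶜ fun n : ℕ => F.obj (op n)) ⟶ ∏ᶜ fun n : ℕ => F.obj (op n) => φ.app V₁ η)
      (kernel.lift_ι (cokernel.π (LimSh.towerDiffSh F)) _ (cokernel.condition _)).symm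
  obtain ⟨e, y, hy⟩ := M1.exists_pow_smul_eq_res_affine (F.obj (op n)) hU f
    ((Pi.π (fun n : ℕ => F.obj (op n)) n).app (X.basicOpen f) (M1.mres _ hfV η))
  have hfQ : f ∉ Q := (mem_basicOpen_fromSpec_iff hU ⟨Q, hQ⟩ f).1 hxf
  obtain ⟨N, hN⟩ := hev f hfQ
  refine hbad (f ^ e) (fun h => hfQ (hQ.mem_of_pow_mem _ h)) (f ^ e • c, y) (max N n) fun m hm hJ => ?_
  have hfm : f ∉ P m := hN m hm.1 hm.2 (le_of_max_le_left hJ)
  have hnm : n ≤ m + 1 := by omega
  have hzf : z m ∈ X.basicOpen f := (mem_basicOpen_fromSpec_iff hU ⟨P m, hP m⟩ f).2 hfm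
  -- germs at `z m`
  let G₀ := fun (a : Γ(F.obj (op n), X.basicOpen f)) =>
    mk m ((F.obj (op n)).presheaf.germ (X.basicOpen f) (z m) hzf a)
  have hG₀add : ∀ a a', G₀ (a - a') = G₀ a - G₀ a' := fun a a' => by
    show mk m _ = _
    rw [map_sub]
    exact map_sub (mk m) _ _
  have hG₀smul : ∀ (r : Γ(X, U)) a, G₀ (M1.ores (X.basicOpen_le f) r • a) = r • G₀ a := fun r a => by
    show mk m _ = r • mk m _
    rw [← map_smul]
    congr 1
    rw [M1.germ_smul, TopCat.Presheaf.germ_res_apply]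
    rfl
  have hG₀res : ∀ a : Γ(F.obj (op n), U), G₀ (M1.mres _ (X.basicOpen_le f) a) = mk m (gm m a) := fun a => by
    show mk m _ = _
    rw [M1.germ_mres]
    rfl
  have e1 : G₀ (psum F (X.basicOpen f) n (m + 1) (M1.mres _ (hfV.trans hV₁) ξ')) =
      ι m (s (m + 1)) - ∑ i ∈ c.support, c i • v i m := by
    have hsum : ∀ (T : Finset {i // i ∈ c.support}) (w : {i // i ∈ c.support} → Γ(F.obj (op n), X.basicOpen f)),
        G₀ (∑ i ∈ T, w i) = ∑ i ∈ T, G₀ (w i) := fun T w => by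
      show mk m _ = _
      rw [map_sum, map_sum]
    rw [map_sub, map_sub, map_sum, map_sum, M1.mres_mres, psum_mres, hpsum (m + 1) hnm, hG₀add, hsum,
      hG₀res, ← hsr (m + 1), ← Finset.sum_attach c.support]
    congr 1
    refine Finset.sum_congr rfl fun i _ => ?_
    have hzi : z m ∈ V i.1 := hV₀i i.1 i.2 (hV₁ (hfV hzf))
    rw [M1.mres_smul, M1.ores_ores, map_smul, hG₀smul, M1.mres_mres, psum_mres]
    simp only [v, dif_pos hzi]
    congr 1
    show mk m _ = mk m _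
    rw [M1.germ_mres]
  have e2 : G₀ (psum F (X.basicOpen f) n (m + 1) (M1.mres _ (hfV.trans hV₁) ξ')) =
      G₀ ((Pi.π (fun n : ℕ => F.obj (op n)) n).app (X.basicOpen f) (M1.mres _ hfV η)) := by
    rw [← hdiff, psum_apply, exists_section_diff F _ n _ (m + 1) hnm, hG₀add, sub_eq_self]
    obtain ⟨e', w, hw⟩ := M1.exists_pow_smul_eq_res_affine (F.obj (op (m + 1))) hU f
      ((Pi.π (fun n : ℕ => F.obj (op n)) (m + 1)).app (X.basicOpen f) (M1.mres _ hfV η))
    refine (Submodule.Quotient.mk_eq_zero _).2 ⟨f ^ e', fun h => hfm ((hP m).mem_of_pow_mem _ h), ?_⟩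
    refine (Submodule.Quotient.mk_eq_zero _).2 ⟨trans F U hnm w, by rw [hI (m + 1) hnm]; exact ⟨w, rfl⟩, ?_⟩
    show (F.obj (op n)).presheaf.germ U (z m) (hzU m) (trans F U hnm w) =
      X.presheaf.germ U (z m) (hzU m) (f ^ e') • (F.obj (op n)).presheaf.germ (X.basicOpen f) (z m) hzf _
    rw [← M1.germ_mres _ (X.basicOpen_le f) hzf, ← trans_mres, hw, map_smul, M1.germ_smul, ← map_pow,
      TopCat.Presheaf.germ_res_apply]
  have e3 : f ^ e • G₀ ((Pi.π (fun n : ℕ => F.obj (op n)) n).app (X.basicOpen f) (M1.mres _ hfV η)) =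
      mk m (gm m y) := by
    rw [← hG₀smul, map_pow, ← hy, hG₀res]
  rw [e1] at e2
  rw [sub_eq_iff_eq_add'] at e2
  show f ^ e • ι m (s (m + 1)) = ψ m (f ^ e • c, y)
  rw [e2, smul_add, e3]
  show _ = Finsupp.linearCombination Γ(X, U) (fun i => v i m) (f ^ e • c) + mk m (gm m y)
  rw [map_smul]
  rfl

end Groth.Agent.CountLim15
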