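import Groth.Agent.Lib.CountLim15.Tower

/-!
# Projections from limits of Mittag-Leffler towers
-/

set_option autoImplicit false
set_option linter.style.haveILetI false

universe u

open CategoryTheory CategoryTheory.Limits AlgebraicGeometry Opposite TopologicalSpace

namespace Groth.Agent.CountLim15

variable {X : Scheme.{u}} (F : ℕᵒᵖ ⥤ X.Modules)

theorem exists_compatible_of_ml (U : X.Opens) (hML : ∀ n : ℕ, ∃ (m : ℕ) (hm : n ≤ m), ∀ (m' : ℕ) (hm' : m ≤ m')
      (x : Γ(F.obj (op m), U)), ∃ y, trans F U (hm.trans hm') y = trans F U hm x) (e : ℕ) :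
    ∃ (d : ℕ) (hd : e ≤ d), ∀ x : Γ(F.obj (op d), U), ∃ s : ∀ n, Γ(F.obj (op n), U),
      (∀ n, trans F U (Nat.le_succ n) (s (n + 1)) = s n) ∧ s e = trans F U hd x := by
  choose m₀ hm hst using hML
  let E : ∀ n, Submodule Γ(X, U) Γ(F.obj (op n), U) := fun n => LinearMap.range (trans F U (hm n))
  have hmem : ∀ n, ∀ e ∈ E (n + 1), trans F U (Nat.le_succ n) e ∈ E n := by
    rintro n _ ⟨x, rfl⟩
    obtain ⟨w, hw⟩ := hst (n + 1) (max (m₀ n) (m₀ (n + 1))) (le_max_right _ _) x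
    refine ⟨trans F U (le_max_left _ _) w, ?_⟩
    rw [trans_trans, ← hw, trans_trans]
  let t : ∀ n, E (n + 1) →ₗ[Γ(X, U)] E n := fun n =>
    ((trans F U (Nat.le_succ n)).comp (E (n + 1)).subtype).codRestrict (E n) fun v => hmem n v.1 v.2
  have ht : ∀ n, Function.Surjective (t n) := by
    rintro n ⟨_, x, rfl⟩
    obtain ⟨w, hw⟩ := hst n (max (m₀ n) (m₀ (n + 1))) (le_max_left _ _) x
    refine ⟨⟨trans F U (hm (n + 1)) (trans F U (le_max_right _ _) w), ⟨_, rfl⟩⟩, Subtype.ext ?_⟩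
    show trans F U (Nat.le_succ n) (trans F U (hm (n + 1)) (trans F U (le_max_right _ _) w)) = trans F U (hm n) x
    rw [trans_trans, trans_trans, ← hw]
  refine ⟨m₀ e, hm e, fun x => ?_⟩
  obtain ⟨s, hs, hse⟩ := exists_family e (fun n => E n) t ht ⟨trans F U (hm e) x, ⟨x, rfl⟩⟩
  exact ⟨fun n => (s n).1, fun n => congrArg Subtype.val (hs n), congrArg Subtype.val hse⟩

/-- The image of the projection from the limit is the stable image. -/
theorem exists_imageSubobject_π_eq (hF : ∀ n : ℕ, Coh.IsQCoh (F.obj (op n)))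
    (hML : ∀ n : ℕ, ∃ (m : ℕ) (hm : n ≤ m), ∀ (m' : ℕ) (hm' : m ≤ m'),
      imageSubobject (F.map (homOfLE (hm.trans hm')).op) = imageSubobject (F.map (homOfLE hm).op))
    (e : ℕ) :
    ∃ (d : ℕ) (hd : e ≤ d), imageSubobject (limit.π F (op e)) = imageSubobject (F.map (homOfLE hd).op) := by
  obtain ⟨d, hd, hst⟩ := hML e
  refine ⟨d, hd, le_antisymm ?_ ?_⟩
  · rw [← limit.w F (homOfLE hd).op]
    exact imageSubobject_comp_le _ _
  · refine imageSubobject_le_of_range _ _ (hF d) (hF e) fun x => ?_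
    obtain ⟨U, hU, hxU, -⟩ := Opens.isBasis_iff_nbhd.1 X.isBasis_affineOpens (show x ∈ (⊤ : X.Opens) from trivial)
    refine ⟨U, hxU, hU, fun a => ?_⟩
    obtain ⟨d', hd', h⟩ := exists_compatible_of_ml F U (fun n => ml_sections F hF hML hU n) e
    obtain ⟨a', ha'⟩ : ∃ a', trans F U hd' a' = trans F U hd a := by
      obtain ⟨y, hy⟩ := range_subset_of_imageSubobject_le _ _ (hF (max d d')) (hF e)
        (hst (max d d') (le_max_left _ _)).ge hU a
      exact ⟨trans F U (le_max_right d d') y, (trans_trans F U _ _ y).trans hy⟩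
    obtain ⟨s, hs, hse⟩ := h a'
    obtain ⟨σ, hσ⟩ := exists_limit_section F U s hs
    exact ⟨σ, (hσ e).trans (hse.trans ha')⟩

end Groth.Agent.CountLim15
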