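import Groth.Agent.Lib.CountLim15.Alg
import Groth.Agent.Lib.ModM1.Coh
import Groth.Agent.Lib.ModM1.Stalk
import Groth.Agent.Lib.TowerVanH7.Basic
import Mathlib.CategoryTheory.Limits.Constructions.EventuallyConstant
import Mathlib.AlgebraicGeometry.Morphisms.FiniteType

/-!
# Quasi-coherence of limits of towers receiving an epimorphism from a countably generated module
-/

set_option autoImplicit false
set_option linter.style.haveILetI false

universe u

open CategoryTheory CategoryTheory.Limits AlgebraicGeometry Opposite TopologicalSpace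

namespace Groth.Agent.CountLim15

variable {X : Scheme.{u}}

theorem mp_succ {C : Type*} [Category* C] (F : ℕᵒᵖ ⥤ C) {m n : ℕ} (h : m ≤ n) :
    F.map (homOfLE (h.trans (Nat.le_succ n))).op = F.map (homOfLE (Nat.le_succ n)).op ≫ F.map (homOfLE h).op := by
  rw [← F.map_comp, ← op_comp, homOfLE_comp]

theorem exists_limit_section (Q : ℕᵒᵖ ⥤ X.Modules) (U : X.Opens) (s : ∀ n, Γ(Q.obj (op n), U))
    (hs : ∀ n, (Q.map (homOfLE (Nat.le_succ n)).op).app U (s (n + 1)) = s n) :
    ∃ σ : Γ(limit Q, U), ∀ n, (limit.π Q (op n)).app U σ = s n := by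
  haveI := TowerVanH7.preservesLimitsOfShape_toSheaf (X := X)
  let E : X.Modules ⥤ Type u := CohFound.abF X ⋙ sheafToPresheaf _ _ ⋙
    (evaluation _ _).obj (op U) ⋙ forget AddCommGrpCat
  haveI : PreservesLimitsOfShape ℕᵒᵖ (CohFound.abF X) := TowerVanH7.preservesLimitsOfShape_toSheaf
  haveI : PreservesLimitsOfShape ℕᵒᵖ (sheafToPresheaf (Opens.grothendieckTopology (CohFound.sp X)) AddCommGrpCat.{u}) :=
    inferInstance
  let h : IsLimit (E.mapCone (limit.cone Q)) := isLimitOfPreserves E (limit.isLimit Q)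
  have hall : ∀ (m n : ℕ) (hnm : n ≤ m), (Q.map (homOfLE hnm).op).app U (s m) = s n := by
    intro m n hnm
    induction m, hnm using Nat.le_induction with
    | base =>
      rw [show (homOfLE (le_refl n)).op = 𝟙 (op n) from rfl, Q.map_id]
      rfl
    | succ m hm ih =>
      rw [mp_succ Q hm, Scheme.Modules.Hom.comp_app]
      show (Q.map (homOfLE hm).op).app U ((Q.map (homOfLE (Nat.le_succ m)).op).app U (s (m + 1))) = s n
      rw [hs m]
      exact ih
  let sec : (Q ⋙ E).sections := ⟨fun j => s j.unop, fun {i j} f => by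
    show (Q.map f).app U (s i.unop) = s j.unop
    rw [show f = (homOfLE (leOfHom f.unop)).op from Quiver.Hom.unop_inj (Subsingleton.elim _ _)]
    exact hall i.unop j.unop _⟩
  exact ⟨(Types.isLimitEquivSections h).symm sec, fun n =>
    Types.isLimitEquivSections_symm_apply h sec (op n)⟩

theorem exists_spanning_seq {k A : Type u} [Field k] [CommRing A] (σ : k →+* A) (hσ : σ.FiniteType) :
    ∃ B : ℕ → A, ∀ a : A, ∃ (m : ℕ) (c : ℕ → k), a = ∑ l ∈ Finset.range m, σ (c l) * B l := by
  classical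
  letI := σ.toAlgebra
  obtain ⟨n, f, hf⟩ := Algebra.FiniteType.iff_quotient_mvPolynomial''.1 (hσ : Algebra.FiniteType k A)
  haveI : Countable (Fin n →₀ ℕ) := Finsupp.equivFunOnFinite.injective.countable
  obtain ⟨e, he⟩ := exists_surjective_nat (Fin n →₀ ℕ)
  choose r hr using he
  refine ⟨fun l => f (MvPolynomial.monomial (e l) 1), fun a => ?_⟩
  obtain ⟨p, rfl⟩ := hf a
  refine ⟨p.support.sup r + 1, fun l => if r (e l) = l then p.coeff (e l) else 0, ?_⟩
  have hinj : ∀ x ∈ p.support, ∀ y ∈ p.support, r x = r y → x = y := fun x _ y _ h => by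
    rw [← hr x, ← hr y, h]
  have hsub : p.support.image r ⊆ Finset.range (p.support.sup r + 1) := by
    intro l hl
    obtain ⟨x, hx, rfl⟩ := Finset.mem_image.1 hl
    exact Finset.mem_range.2 (Nat.lt_succ_of_le (Finset.le_sup hx))
  rw [← Finset.sum_subset hsub (fun l _ hl => ?_), Finset.sum_image hinj]
  · conv_lhs => rw [p.as_sum, map_sum]
    refine Finset.sum_congr rfl fun x _ => ?_
    dsimp only
    rw [hr x, if_pos rfl]
    show f (MvPolynomial.monomial x (p.coeff x)) = algebraMap k A (p.coeff x) * f (MvPolynomial.monomial x 1)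
    rw [← Algebra.smul_def, ← map_smul, MvPolynomial.smul_monomial, smul_eq_mul, mul_one]
  · dsimp only
    split_ifs with h
    · rw [MvPolynomial.notMem_support_iff.1 fun hx => hl (Finset.mem_image.2 ⟨_, hx, h⟩), map_zero, zero_mul]
    · rw [map_zero, zero_mul]

theorem exists_range_span {A M : Type u} [CommRing A] [AddCommGroup M] [Module A M] (s : Set M)
    (hs : s.Countable) (h : Submodule.span A s = ⊤) : ∃ g : ℕ → M, Submodule.span A (Set.range g) = ⊤ := by
  obtain ⟨g, hg⟩ := (hs.insert 0).exists_eq_range (Set.insert_nonempty 0 s)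
  exact ⟨g, by rw [← hg, Submodule.span_insert_zero, h]⟩

/-- Injectivity on an affine open spreads to its basic opens. -/
theorem injective_basicOpen {M N : X.Modules} (hM : Coh.IsQCoh M) (hN : Coh.IsQCoh N) (φ : M ⟶ N)
    {U : X.Opens} (hU : IsAffineOpen U) (h : Function.Injective (φ.app U)) (f : Γ(X, U)) :
    Function.Injective (φ.app (X.basicOpen f)) := by
  haveI : M.IsQuasicoherent := hM
  haveI : N.IsQuasicoherent := hN
  rw [injective_iff_map_eq_zero]
  intro t ht
  obtain ⟨e, t₀, ht₀⟩ := M1.exists_pow_smul_eq_res_affine M hU f t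
  have h1 : M1.mres N (X.basicOpen_le f) (φ.app U t₀) = 0 := by
    rw [← M1.app_mres, ht₀, Scheme.Modules.Hom.app_smul, ht, smul_zero]
  obtain ⟨m, hm⟩ := M1.exists_pow_smul_eq_zero_affine N hU f _ h1
  have h2 : f ^ m • t₀ = 0 := h (by rw [Scheme.Modules.Hom.app_smul, hm, map_zero])
  have h3 := congrArg (M1.mres M (X.basicOpen_le f)) h2
  rw [M1.mres_smul, map_pow, ht₀, map_zero, ← mul_smul, ← pow_add] at h3
  have hu : IsUnit (M1.ores (X.basicOpen_le f) f) := X.toRingedSpace.isUnit_res_basicOpen f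
  exact (hu.pow _).smul_eq_zero.1 h3

section

variable (k : Type u) [Field k] (q : X ⟶ Spec (CommRingCat.of k)) [LocallyOfFiniteType q]
  (Q : ℕᵒᵖ ⥤ X.Modules) (hQ : ∀ n : ℕ, Coh.IsQCoh (Q.obj (op n))) (c : Cone Q) (hG : Coh.IsQCoh c.pt)

include q hQ hG in
theorem exists_injective_affine {U : X.Opens} (hU : IsAffineOpen U)
    (s : Set (c.pt.val.obj (op U))) (hs : s.Countable)
    (hspan : Submodule.span (X.ringCatSheaf.obj.obj (op U)) s = ⊤)
    (hepi : ∀ n : ℕ, Epi (c.π.app (op n))) (hlim : Epi (limit.lift Q c)) :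
    ∃ N, ∀ n, N ≤ n → Function.Injective ((Q.map (homOfLE (Nat.le_succ n)).op).app U) := by
  haveI : IsLocallyNoetherian X := LocallyOfFiniteType.isLocallyNoetherian q
  haveI : IsNoetherianRing Γ(X, U) := IsLocallyNoetherian.component_noetherian ⟨U, hU⟩
  haveI : c.pt.IsQuasicoherent := hG
  haveI := fun n => hQ n
  by_contra hcon
  push Not at hcon
  obtain ⟨g, hg⟩ := exists_range_span (A := Γ(X, U)) (M := Γ(c.pt, U)) s hs hspan
  let σ : k →+* Γ(X, U) :=
    ((q.appLE ⊤ U le_top).hom).comp (Scheme.ΓSpecIso (CommRingCat.of k)).inv.hom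
  have hσ : σ.FiniteType :=
    (q.finiteType_appLE (isAffineOpen_top _) hU le_top).comp
      (RingHom.FiniteType.of_surjective _
        (Scheme.ΓSpecIso (CommRingCat.of k)).symm.commRingCatIsoToRingEquiv.surjective)
  obtain ⟨B, hB⟩ := exists_spanning_seq σ hσ
  let t : ∀ n, Γ(Q.obj (op (n + 1)), U) →ₗ[Γ(X, U)] Γ(Q.obj (op n), U) := fun n =>
    { toFun := fun x => (Q.map (homOfLE (Nat.le_succ n)).op).app U x
      map_add' := fun _ _ => map_add _ _ _
      map_smul' := fun r x => Scheme.Modules.Hom.app_smul _ r x }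
  let π : ∀ n, Γ(c.pt, U) →ₗ[Γ(X, U)] Γ(Q.obj (op n), U) := fun n =>
    { toFun := fun x => (c.π.app (op n)).app U x
      map_add' := fun _ _ => map_add _ _ _
      map_smul' := fun r x => Scheme.Modules.Hom.app_smul _ r x }
  have ht : ∀ n, Function.Surjective (t n) := fun n y => by
    haveI := hepi n
    obtain ⟨x, hx⟩ := M1.app_surjective_affine_of_isQCoh hG (hQ n) (c.π.app (op n)) hU y
    refine ⟨(c.π.app (op (n + 1))).app U x, ?_⟩
    show (Q.map (homOfLE (Nat.le_succ n)).op).app U ((c.π.app (op (n + 1))).app U x) = y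
    rw [← c.w (homOfLE (Nat.le_succ n)).op] at hx
    exact hx
  obtain ⟨P, hP, sf, hsf, hbad⟩ := exists_unliftable σ (M := fun n => Γ(Q.obj (op n), U)) t ht B hB π g hg hcon
  obtain ⟨sec, hsec⟩ := exists_limit_section Q U sf hsf
  let x : X := hU.fromSpec ⟨P, hP⟩
  have hxU : x ∈ U := hU.range_fromSpec.subset (Set.mem_range_self _)
  obtain ⟨V, hVU, hxV, gV, hgV⟩ := (M1.epi_iff_locally_surjective _).1 hlim U sec x hxU
  obtain ⟨f, hfV, hxf⟩ := hU.exists_basicOpen_le (V := V) ⟨x, hxV⟩ hxU
  have hfP : f ∉ P := by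
    have h1 : (⟨P, hP⟩ : PrimeSpectrum Γ(X, U)) ∈ hU.fromSpec ⁻¹ᵁ X.basicOpen f := hxf
    rw [hU.fromSpec_preimage_basicOpen] at h1
    exact h1
  obtain ⟨e, y₀, hy₀⟩ := M1.exists_pow_smul_eq_res_affine c.pt hU f (M1.mres c.pt hfV gV)
  refine hbad (f ^ (e + 1)) (fun h => hfP (hP.mem_of_pow_mem _ h)) (f • y₀) fun n => ?_
  have hloc : (c.π.app (op n)).app (X.basicOpen f) (M1.mres c.pt hfV gV) =
      M1.mres (Q.obj (op n)) (X.basicOpen_le f) (sf n) := by
    refine (M1.app_mres (c.π.app (op n)) hfV gV).trans ?_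
    rw [← limit.lift_π c (op n), Scheme.Modules.Hom.comp_app]
    show M1.mres _ hfV ((limit.π Q (op n)).app V ((limit.lift Q c).app V gV)) = _
    rw [hgV, show (limit Q).presheaf.map (homOfLE hVU).op sec = M1.mres (limit Q) hVU sec from rfl,
      M1.app_mres, hsec, M1.mres_mres]
  have h0 : M1.mres (Q.obj (op n)) (X.basicOpen_le f) (f ^ (e + 1) • sf n - π n (f • y₀)) = 0 := by
    rw [map_sub, M1.mres_smul, map_pow, (π n).map_smul]
    show _ - M1.mres (Q.obj (op n)) (X.basicOpen_le f) (f • (c.π.app (op n)).app U y₀) = 0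
    rw [M1.mres_smul]
    have h1 := (congrArg ((c.π.app (op n)).app (X.basicOpen f)) hy₀).symm.trans
      (M1.app_mres (c.π.app (op n)) (X.basicOpen_le f) y₀)
    have h2 := ((Scheme.Modules.Hom.app_smul (c.π.app (op n)) _ _).symm.trans h1).symm
    refine sub_eq_zero.2 ?_
    erw [h2, hloc]
    rw [← mul_smul, ← pow_succ']
  obtain ⟨m, hm⟩ := M1.exists_pow_smul_eq_zero_affine (Q.obj (op n)) hU f _ h0
  refine ⟨m, ?_⟩
  rw [← pow_mul, show (e + 1) * m = e * m + m by ring, pow_add, mul_smul]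
  exact (congrArg (f ^ (e * m) • ·) hm).trans (smul_zero _)

include q hQ hG in
/-- Transitions of a tower with an epimorphism from countably generated onto the limit stabilise. -/
theorem exists_isIso_transition [CompactSpace X]
    (hGc : ∀ U : X.affineOpens, ∃ s : Set (c.pt.val.obj (op (U : X.Opens))),
        s.Countable ∧ Submodule.span (X.ringCatSheaf.obj.obj (op (U : X.Opens))) s = ⊤)
    (hepi : ∀ n : ℕ, Epi (c.π.app (op n))) (hlim : Epi (limit.lift Q c)) :
    ∃ N : ℕ, ∀ n : ℕ, N ≤ n → IsIso (Q.map (homOfLE (Nat.le_succ n)).op) := by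
  let 𝒰 := X.affineCover.finiteSubcover
  have hN : ∀ i, ∃ N, ∀ n, N ≤ n →
      Function.Injective ((Q.map (homOfLE (Nat.le_succ n)).op).app (𝒰.f i).opensRange) := fun i => by
    obtain ⟨s, hs, hspan⟩ := hGc ⟨(𝒰.f i).opensRange, isAffineOpen_opensRange _⟩
    exact exists_injective_affine k q Q hQ c hG (isAffineOpen_opensRange (𝒰.f i)) s hs hspan hepi hlim
  choose N hN using hN
  haveI : Finite 𝒰.I₀ := inferInstance
  obtain ⟨N₀, hN₀⟩ := (Set.finite_range N).bddAbove
  refine ⟨N₀, fun n hn => ?_⟩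
  haveI := hepi n
  haveI : Epi (Q.map (homOfLE (Nat.le_succ n)).op) :=
    epi_of_epi_fac (c.w (homOfLE (Nat.le_succ n)).op)
  haveI : Mono (Q.map (homOfLE (Nat.le_succ n)).op) := by
    refine M1.mono_of_basis _ {W | ∃ (i : 𝒰.I₀) (f : Γ(X, (𝒰.f i).opensRange)), W = X.basicOpen f} ?_ ?_
    · rw [Opens.isBasis_iff_nbhd]
      intro W x hx
      have hxi : x ∈ (𝒰.f (𝒰.idx x)).opensRange := 𝒰.covers x
      obtain ⟨f, hf, hxf⟩ := (isAffineOpen_opensRange (𝒰.f (𝒰.idx x))).exists_basicOpen_le ⟨x, hx⟩ hxi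
      exact ⟨_, ⟨_, f, rfl⟩, hxf, hf⟩
    · rintro _ ⟨i, f, rfl⟩
      exact injective_basicOpen (hQ (n + 1)) (hQ n) _ (isAffineOpen_opensRange _)
        (hN i n ((hN₀ ⟨i, rfl⟩).trans hn)) f
  exact isIso_of_mono_of_epi _

end

section image

variable (F : ℕᵒᵖ ⥤ X.Modules) {G : X.Modules} (φ : G ⟶ limit F)

/-- The tower of images. -/
noncomputable def imageTower : ℕᵒᵖ ⥤ X.Modules where
  obj j := Abelian.image (φ ≫ limit.π F j)
  map {i j} f := kernel.lift _ (Abelian.image.ι (φ ≫ limit.π F i) ≫ F.map f) (by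
    refine (cancel_epi (Abelian.factorThruImage (φ ≫ limit.π F i))).1 ?_
    rw [comp_zero, ← Category.assoc, ← Category.assoc, Abelian.image.fac, Category.assoc φ, limit.w]
    exact cokernel.condition _)
  map_id j := by
    rw [← cancel_mono (Abelian.image.ι (φ ≫ limit.π F j))]
    simp
  map_comp {a b c} f g := by
    rw [← cancel_mono (Abelian.image.ι (φ ≫ limit.π F c))]
    simp

/-- The inclusion of the images. -/
noncomputable def imageTowerι : imageTower F φ ⟶ F where
  app j := Abelian.image.ι (φ ≫ limit.π F j)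
  naturality i j f := by simp [imageTower]

/-- The cone of the projections onto the images. -/
noncomputable def imageCone : Cone (imageTower F φ) where
  pt := G
  π :=
    { app := fun j => Abelian.factorThruImage (φ ≫ limit.π F j)
      naturality := fun i j f => by
        show 𝟙 G ≫ Abelian.factorThruImage (φ ≫ limit.π F j) = _
        refine (cancel_mono (Abelian.image.ι (φ ≫ limit.π F j))).1 ?_
        simp [imageTower] }

theorem lift_imageCone_limMap :
    (limit.lift (imageTower F φ) (imageCone F φ) : G ⟶ limit (imageTower F φ)) ≫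
      limMap (imageTowerι F φ) = φ := by
  refine limit.hom_ext fun j => ?_
  simp [imageTowerι, imageCone]
  exact Abelian.image.fac _

theorem isIso_limMap_imageTowerι [Epi φ] : IsIso (limMap (imageTowerι F φ)) := by
  haveI : Epi (limMap (imageTowerι F φ)) :=
    @epi_of_epi_fac _ _ _ _ _ _ _ φ ‹Epi φ› (lift_imageCone_limMap F φ)
  haveI : ∀ j, Mono ((imageTowerι F φ).app j) := fun j =>
    inferInstanceAs (Mono (Abelian.image.ι (φ ≫ limit.π F j)))
  haveI : Mono (limMap (imageTowerι F φ)) := limMap_mono _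
  exact isIso_of_mono_of_epi _

theorem epi_lift_imageCone [Epi φ] : Epi (limit.lift (imageTower F φ) (imageCone F φ)) := by
  haveI := isIso_limMap_imageTowerι F φ
  haveI : Epi (φ ≫ inv (limMap (imageTowerι F φ))) := inferInstance
  have e : (limit.lift (imageTower F φ) (imageCone F φ) : G ⟶ limit (imageTower F φ)) =
      φ ≫ inv (limMap (imageTowerι F φ)) := (IsIso.eq_comp_inv _).2 (lift_imageCone_limMap F φ)
  exact e ▸ this

theorem isQCoh_imageTower (hG : Coh.IsQCoh G) {j : ℕᵒᵖ} (hF : Coh.IsQCoh (F.obj j)) :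
    Coh.IsQCoh ((imageTower F φ).obj j) :=
  M1.isQCoh_kernel hF (M1.isQCoh_cokernel hG hF _) _

/-- The limit of a tower receiving an epimorphism from a countably generated module. -/
theorem exists_limit_iso [CompactSpace X] (k : Type u) [Field k] (q : X ⟶ Spec (CommRingCat.of k))
    [LocallyOfFiniteType q] (hF : ∀ n : ℕ, Coh.IsQCoh (F.obj (op n))) (hG : Coh.IsQCoh G)
    (hGc : ∀ U : X.affineOpens, ∃ s : Set (G.val.obj (op (U : X.Opens))),
        s.Countable ∧ Submodule.span (X.ringCatSheaf.obj.obj (op (U : X.Opens))) s = ⊤)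
    [Epi φ] : Coh.IsQCoh (limit F) := by
  obtain ⟨N, hN⟩ := exists_isIso_transition k q (imageTower F φ) (fun n => isQCoh_imageTower F φ hG (hF n))
    (imageCone F φ) hG hGc (fun n => inferInstanceAs (Epi (Abelian.factorThruImage (φ ≫ limit.π F (op n)))))
    (epi_lift_imageCone F φ)
  have hc : (imageTower F φ).IsEventuallyConstantTo (op N) := by
    intro i f
    obtain ⟨i⟩ := i
    have hle : N ≤ i := leOfHom f.unop
    rw [show f = (homOfLE hle).op from Quiver.Hom.unop_inj (Subsingleton.elim _ _)]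
    clear f
    induction i, hle using Nat.le_induction with
    | base =>
      rw [show (homOfLE (le_refl N)).op = 𝟙 (op N) from rfl, CategoryTheory.Functor.map_id]
      infer_instance
    | succ m hm ih =>
      haveI := hN m hm
      rw [mp_succ (imageTower F φ) hm]
      infer_instance
  haveI : IsIso (limit.π (imageTower F φ) (op N)) := hc.isIso_π_of_isLimit (limit.isLimit (imageTower F φ))
  haveI := isIso_limMap_imageTowerι F φ
  exact M1.isQCoh_of_isIso ((asIso (limit.π (imageTower F φ) (op N))).symm ≪≫ asIso (limMap (imageTowerι F φ)))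
    (isQCoh_imageTower F φ hG (hF N))

end image

theorem exists_countable_span_of_epi {G L : X.Modules} (φ : G ⟶ L) [Epi φ] (hG : Coh.IsQCoh G)
    (hL : Coh.IsQCoh L) {U : X.Opens} (hU : IsAffineOpen U) (s : Set (G.val.obj (op U))) (hs : s.Countable)
    (hspan : Submodule.span (X.ringCatSheaf.obj.obj (op U)) s = ⊤) :
    ∃ s' : Set (L.val.obj (op U)),
      s'.Countable ∧ Submodule.span (X.ringCatSheaf.obj.obj (op U)) s' = ⊤ := by
  let f : G.val.obj (op U) →ₗ[X.ringCatSheaf.obj.obj (op U)] L.val.obj (op U) := (φ.val.app (op U)).hom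
  refine ⟨f '' s, hs.image _, ?_⟩
  rw [Submodule.span_image, hspan, Submodule.map_top, LinearMap.range_eq_top]
  exact M1.app_surjective_affine_of_isQCoh hG hL φ hU

theorem isCoh_of_epi [IsLocallyNoetherian X] {G L : X.Modules} (φ : G ⟶ L) [Epi φ] (hG : Coh.IsCoh G)
    (hL : Coh.IsQCoh L) : Coh.IsCoh L := by
  have hGq : Coh.IsQCoh G := M1.isFP_isQCoh (M1.isFP_of_isCoh hG)
  have h := M1.isCoh_cokernel (M1.isQCoh_kernel hGq hL φ) hG (kernel.ι φ)
  exact (M1.isCoh_iff_isFP L).2 (M1.isFP_of_isIso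
    ((colimit.isColimit _).coconePointUniqueUpToIso (Abelian.epiIsCokernelOfKernel _ (limit.isLimit _)))
    (M1.isFP_of_isCoh h))

end Groth.Agent.CountLim15
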