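import Groth.Agent.Lib.CountLim15.Main
import Groth.Agent.Lib.ModM1.Sub
import Groth.Prelude.Def_W4c2derhamsingLim
import Mathlib.CategoryTheory.Subobject.Limits
import Mathlib.CategoryTheory.Limits.Shapes.Products

/-!
# Mittag-Leffler towers of quasi-coherent modules
-/

set_option autoImplicit false
set_option linter.style.haveILetI false

universe u

open CategoryTheory CategoryTheory.Limits AlgebraicGeometry Opposite TopologicalSpace

namespace Groth.Agent.CountLim15

variable {X : Scheme.{u}}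

theorem isIso_abelianImage_lift {M F : X.Modules} (φ : M ⟶ F) :
    imageSubobject φ = Subobject.mk (Abelian.image.ι φ) := by
  refine le_antisymm (imageSubobject_le_mk _ φ (Abelian.factorThruImage φ) (Abelian.image.fac φ)) ?_
  haveI : Mono (imageSubobject φ).arrow := inferInstance
  have h : φ ≫ cokernel.π (imageSubobject φ).arrow = 0 := by
    refine (congrArg (· ≫ cokernel.π (imageSubobject φ).arrow) (imageSubobject_arrow_comp φ)).symm.trans ?_
    rw [Category.assoc, cokernel.condition, comp_zero]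
  refine Subobject.mk_le_of_comm (Abelian.monoLift (imageSubobject φ).arrow (Abelian.image.ι φ) ?_)
    (Abelian.monoLift_comp _ _ _)
  refine (cancel_epi (Abelian.factorThruImage φ)).1 ?_
  rw [← Category.assoc, Abelian.image.fac, h, comp_zero]

theorem mem_im_iff {M F : X.Modules} (φ : M ⟶ F) (hM : Coh.IsQCoh M) (hF : Coh.IsQCoh F)
    {U : X.Opens} (hU : IsAffineOpen U) (s : Γ(F, U)) :
    (M1.Sub.im φ).mem U s ↔ ∃ a, φ.app U a = s := by
  constructor
  · rintro ⟨b, rfl⟩
    haveI : Epi (kernel.lift (cokernel.π φ) φ (cokernel.condition φ)) := M1.Sub.epi_toIm φ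
    obtain ⟨a, ha⟩ := @M1.app_surjective_affine_of_isQCoh _ _ _ hM (M1.Sub.isQCoh_im φ hM hF)
      (kernel.lift (cokernel.π φ) φ (cokernel.condition φ)) (M1.Sub.epi_toIm φ) _ hU b
    refine ⟨a, ?_⟩
    rw [← ha]
    show φ.app U a = (kernel.ι (cokernel.π φ)).app U ((kernel.lift (cokernel.π φ) φ (cokernel.condition φ)).app U a)
    conv_lhs => rw [← kernel.lift_ι (cokernel.π φ) φ (cokernel.condition φ)]
    rfl
  · rintro ⟨a, rfl⟩
    exact M1.Sub.im_mem_app φ U a

theorem range_subset_of_imageSubobject_le {M N F : X.Modules} (φ : M ⟶ F) (ψ : N ⟶ F)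
    (hN : Coh.IsQCoh N) (hF : Coh.IsQCoh F) (h : imageSubobject φ ≤ imageSubobject ψ)
    {U : X.Opens} (hU : IsAffineOpen U) (a : Γ(M, U)) : ∃ b, ψ.app U b = φ.app U a := by
  rw [isIso_abelianImage_lift, isIso_abelianImage_lift] at h
  refine (mem_im_iff ψ hN hF hU _).1 ⟨(Subobject.ofMkLEMk _ _ h).app U ((Abelian.factorThruImage φ).app U a), ?_⟩
  show (Subobject.ofMkLEMk _ _ h ≫ Abelian.image.ι ψ).app U ((Abelian.factorThruImage φ).app U a) = φ.app U a
  rw [Subobject.ofMkLEMk_comp h]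
  conv_rhs => rw [← Abelian.image.fac φ]
  rfl

theorem imageSubobject_le_of_range {M N F : X.Modules} (φ : M ⟶ F) (ψ : N ⟶ F)
    (hM : Coh.IsQCoh M) (hF : Coh.IsQCoh F)
    (h : ∀ x : X, ∃ U : X.Opens, x ∈ U ∧ IsAffineOpen U ∧ ∀ a : Γ(M, U), ∃ b, ψ.app U b = φ.app U a) :
    imageSubobject φ ≤ imageSubobject ψ := by
  rw [isIso_abelianImage_lift, isIso_abelianImage_lift]
  haveI : M.IsQuasicoherent := hM
  haveI : F.IsQuasicoherent := hF
  obtain ⟨c, hc⟩ := M1.Sub.exists_lift (M1.Sub.im φ).i (M1.Sub.im ψ) fun T m => by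
    refine M1.Sub.im_le φ (M1.Sub.im ψ) (fun T a => ?_) T _ ⟨m, rfl⟩
    refine M1.Sub.mem_of_locally _ _ fun x hx => ?_
    obtain ⟨U, hxU, hU, hUr⟩ := h x
    obtain ⟨f, hf, hxf⟩ := hU.exists_basicOpen_le (V := T ⊓ U) ⟨x, hx, hxU⟩ hxU
    refine ⟨X.basicOpen f, hf.trans inf_le_left, hxf, ?_⟩
    obtain ⟨e, a₀, ha₀⟩ := M1.exists_pow_smul_eq_res_affine M hU f (M1.mres M (hf.trans inf_le_left) a)
    obtain ⟨b₀, hb₀⟩ := hUr a₀
    have hu : IsUnit (M1.ores (X.basicOpen_le f) f) := X.toRingedSpace.isUnit_res_basicOpen f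
    have h1 : (M1.Sub.im ψ).mem (X.basicOpen f) (M1.ores (X.basicOpen_le f) f ^ e •
        φ.app (X.basicOpen f) (M1.mres M (hf.trans inf_le_left) a)) := by
      rw [← Scheme.Modules.Hom.app_smul, ← ha₀, M1.app_mres, ← hb₀, ← M1.app_mres]
      exact M1.Sub.im_mem_app ψ _ _
    have h2 := M1.Sub.mem_smul _ (↑((hu.pow e).unit⁻¹) : Γ(X, X.basicOpen f)) h1
    rw [← mul_smul, IsUnit.val_inv_mul, one_smul, M1.app_mres] at h2
    exact h2
  exact Subobject.mk_le_mk_of_comm c hc

section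

variable (F : ℕᵒᵖ ⥤ X.Modules)

/-- The linear transition maps on sections over an open set. -/
noncomputable def trans (U : X.Opens) {n m : ℕ} (h : n ≤ m) :
    Γ(F.obj (op m), U) →ₗ[Γ(X, U)] Γ(F.obj (op n), U) where
  toFun x := (F.map (homOfLE h).op).app U x
  map_add' _ _ := map_add _ _ _
  map_smul' r x := Scheme.Modules.Hom.app_smul _ r x

theorem trans_self (U : X.Opens) {n : ℕ} (x : Γ(F.obj (op n), U)) : trans F U (le_refl n) x = x := by
  show (F.map (homOfLE (le_refl n)).op).app U x = x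
  rw [show (homOfLE (le_refl n)).op = 𝟙 (op n) from rfl, F.map_id]
  rfl

theorem trans_trans (U : X.Opens) {n m l : ℕ} (h : n ≤ m) (h' : m ≤ l) (x : Γ(F.obj (op l), U)) :
    trans F U h (trans F U h' x) = trans F U (h.trans h') x := by
  show (F.map (homOfLE h).op).app U ((F.map (homOfLE h').op).app U x) = (F.map (homOfLE (h.trans h')).op).app U x
  rw [show (homOfLE (h.trans h')).op = (homOfLE h').op ≫ (homOfLE h).op from Quiver.Hom.unop_inj (Subsingleton.elim _ _),
    F.map_comp]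
  rfl

theorem trans_mres {U V : X.Opens} (i : V ≤ U) {n m : ℕ} (h : n ≤ m) (x : Γ(F.obj (op m), U)) :
    trans F V h (M1.mres _ i x) = M1.mres _ i (trans F U h x) :=
  M1.app_mres (F.map (homOfLE h).op) i x

theorem preservesDiscrete_abF :
    PreservesLimitsOfShape (Discrete ℕ) (CohFound.abF X) := by
  haveI h : PreservesLimitsOfShape (Discrete ℕ) (SheafOfModules.toSheaf.{u} X.ringCatSheaf ⋙ sheafToPresheaf _ _) :=
    preservesLimitsOfShape_of_natIso
      (F := SheafOfModules.forget.{u} X.ringCatSheaf ⋙ PresheafOfModules.toPresheaf _) (Iso.refl _)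
  exact @preservesLimitsOfShape_of_reflects_of_preserves _ _ _ _ _ _ _ _
    (SheafOfModules.toSheaf.{u} X.ringCatSheaf) (sheafToPresheaf _ _) h inferInstance

theorem exists_prod_section (P : ℕ → X.Modules) (U : X.Opens) (s : ∀ n, Γ(P n, U)) :
    ∃ σ : Γ(∏ᶜ P, U), ∀ n, (Pi.π P n).app U σ = s n := by
  haveI := preservesDiscrete_abF (X := X)
  let E : X.Modules ⥤ Type u := CohFound.abF X ⋙ sheafToPresheaf _ _ ⋙
    (evaluation _ _).obj (op U) ⋙ forget AddCommGrpCat
  let h : IsLimit (E.mapCone (limit.cone (Discrete.functor P))) :=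
    isLimitOfPreserves E (limit.isLimit (Discrete.functor P))
  let sec : (Discrete.functor P ⋙ E).sections := ⟨fun j => s j.as, fun {i j} f => by
    obtain rfl : i = j := Discrete.ext (Discrete.eq_of_hom f)
    rw [show f = 𝟙 i from Subsingleton.elim _ _, CategoryTheory.Functor.map_id]
    rfl⟩
  exact ⟨(Types.isLimitEquivSections h).symm sec, fun n =>
    Types.isLimitEquivSections_symm_apply h sec ⟨n⟩⟩

theorem π_app_towerDiffSh (U : X.Opens) (η : Γ(∏ᶜ fun n : ℕ => F.obj (op n), U)) (n : ℕ) :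
    (Pi.π (fun n : ℕ => F.obj (op n)) n).app U ((LimSh.towerDiffSh F).app U η) =
      (Pi.π (fun n : ℕ => F.obj (op n)) n).app U η -
        trans F U (Nat.le_succ n) ((Pi.π (fun n : ℕ => F.obj (op n)) (n + 1)).app U η) := by
  show ((LimSh.towerDiffSh F) ≫ Pi.π (fun n : ℕ => F.obj (op n)) n).app U η = _
  rw [LimSh.towerDiffSh, limit.lift_π]
  rfl

theorem ext_prod {P : ℕ → X.Modules} {U : X.Opens} (σ τ : Γ(∏ᶜ P, U))
    (h : ∀ n, (Pi.π P n).app U σ = (Pi.π P n).app U τ) : σ = τ := by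
  haveI := preservesDiscrete_abF (X := X)
  let E : X.Modules ⥤ Type u := CohFound.abF X ⋙ sheafToPresheaf _ _ ⋙
    (evaluation _ _).obj (op U) ⋙ forget AddCommGrpCat
  let hl : IsLimit (E.mapCone (limit.cone (Discrete.functor P))) :=
    isLimitOfPreserves E (limit.isLimit (Discrete.functor P))
  refine (Types.isLimitEquivSections hl).injective (Subtype.ext (funext fun j => ?_))
  exact h j.as

theorem exists_section_diff (U : X.Opens) (n : ℕ) (η : Γ(∏ᶜ fun n : ℕ => F.obj (op n), U)) :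
    ∀ m, ∀ (h : n ≤ m), (∑ j ∈ Finset.Ico n m, (if hj : n ≤ j then
        trans F U hj ((Pi.π (fun n : ℕ => F.obj (op n)) j).app U ((LimSh.towerDiffSh F).app U η)) else 0)) =
      (Pi.π (fun n : ℕ => F.obj (op n)) n).app U η - trans F U h ((Pi.π (fun n : ℕ => F.obj (op n)) m).app U η) := by
  intro m h
  induction m, h using Nat.le_induction with
  | base => rw [Finset.Ico_self, Finset.sum_empty, trans_self, sub_self]
  | succ m hm ih =>
    rw [Finset.sum_Ico_succ_top hm, ih, dif_pos hm, π_app_towerDiffSh, map_sub, trans_trans]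
    abel

/-- Mittag-Leffler on sections over affine opens, from the condition on image subobjects. -/
theorem ml_sections (hF : ∀ n : ℕ, Coh.IsQCoh (F.obj (op n)))
    (hML : ∀ n : ℕ, ∃ (m : ℕ) (hm : n ≤ m), ∀ (m' : ℕ) (hm' : m ≤ m'),
      imageSubobject (F.map (homOfLE (hm.trans hm')).op) = imageSubobject (F.map (homOfLE hm).op))
    {U : X.Opens} (hU : IsAffineOpen U) (n : ℕ) :
    ∃ (m : ℕ) (hm : n ≤ m), ∀ (m' : ℕ) (hm' : m ≤ m') (x : Γ(F.obj (op m), U)),
      ∃ y, trans F U (hm.trans hm') y = trans F U hm x := by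
  obtain ⟨m, hm, h⟩ := hML n
  exact ⟨m, hm, fun m' hm' x => range_subset_of_imageSubobject_le _ _ (hF m') (hF n) (h m' hm').ge hU x⟩

/-- Classical vanishing of `lim¹` for Mittag-Leffler towers. -/
theorem exists_diff_eq (U : X.Opens) (hML : ∀ n : ℕ, ∃ (m : ℕ) (hm : n ≤ m), ∀ (m' : ℕ) (hm' : m ≤ m')
      (x : Γ(F.obj (op m), U)), ∃ y, trans F U (hm.trans hm') y = trans F U hm x)
    (y : ∀ n, Γ(F.obj (op n), U)) :
    ∃ z : ∀ n, Γ(F.obj (op n), U), ∀ n, z n - trans F U (Nat.le_succ n) (z (n + 1)) = y n := by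
  choose m₀ hm₀ hst₀ using hML
  let m : ℕ → ℕ := fun n => Nat.rec (m₀ 0) (fun i r => max r (m₀ (i + 1))) n
  have hm : ∀ n, n ≤ m n := fun n => by
    cases n with
    | zero => exact Nat.zero_le _
    | succ i => exact (hm₀ (i + 1)).trans (le_max_right _ _)
  have hm' : ∀ n, m₀ n ≤ m n := fun n => by
    cases n with
    | zero => exact le_rfl
    | succ i => exact le_max_right _ _
  have hst : ∀ n m' (h : m n ≤ m') (x : Γ(F.obj (op (m n)), U)),
      ∃ w, trans F U ((hm n).trans h) w = trans F U (hm n) x := fun n m' h x => by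
    obtain ⟨w, hw⟩ := hst₀ n m' ((hm' n).trans h) (trans F U (hm' n) x)
    exact ⟨w, hw.trans (trans_trans F U (hm₀ n) (hm' n) x)⟩
  -- the stable images
  let E : ∀ n, Submodule Γ(X, U) Γ(F.obj (op n), U) := fun n => LinearMap.range (trans F U (hm n))
  have hEle : ∀ n l (h : m n ≤ l) (w : Γ(F.obj (op l), U)), trans F U ((hm n).trans h) w ∈ E n := fun n l h w =>
    ⟨trans F U h w, trans_trans F U (hm n) h w⟩
  have hsurj : ∀ n, ∀ e ∈ E n, ∃ e' ∈ E (n + 1), trans F U (Nat.le_succ n) e' = e := by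
    rintro n _ ⟨x, rfl⟩
    obtain ⟨w, hw⟩ := hst n (m (n + 1)) (le_max_left _ _) x
    exact ⟨trans F U (hm (n + 1)) w, ⟨w, rfl⟩, (trans_trans F U _ _ w).trans hw⟩
  let zz : ∀ n, Γ(F.obj (op n), U) := fun n =>
    ∑ j ∈ Finset.Ico n (m n), if hj : n ≤ j then trans F U hj (y j) else 0
  have herr : ∀ n, y n - (zz n - trans F U (Nat.le_succ n) (zz (n + 1))) ∈ E n := by
    intro n
    let g : ℕ → Γ(F.obj (op n), U) := fun j => if hj : n ≤ j then trans F U hj (y j) else 0
    have h1 : trans F U (Nat.le_succ n) (zz (n + 1)) = ∑ j ∈ Finset.Ico (n + 1) (m (n + 1)), g j := by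
      show trans F U (Nat.le_succ n) (Finset.sum _ _) = _
      rw [map_sum]
      refine Finset.sum_congr rfl fun j hj => ?_
      have := (Finset.mem_Ico.1 hj).1
      simp only [g, dif_pos this, dif_pos (show n ≤ j by omega), trans_trans]
    have hle : m n ≤ m (n + 1) := le_max_left _ _
    have h2 : y n - (zz n - trans F U (Nat.le_succ n) (zz (n + 1))) = ∑ j ∈ Finset.Ico (m n) (m (n + 1)), g j := by
      have hg : g n = y n := by simp only [g, dif_pos (le_refl n), trans_self]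
      have e1 : ∑ j ∈ Finset.Ico n (m (n + 1)), g j = g n + ∑ j ∈ Finset.Ico (n + 1) (m (n + 1)), g j :=
        Finset.sum_eq_sum_Ico_succ_bot (by have := hm (n + 1); omega) g
      have e2 : (∑ j ∈ Finset.Ico n (m n), g j) + ∑ j ∈ Finset.Ico (m n) (m (n + 1)), g j =
          ∑ j ∈ Finset.Ico n (m (n + 1)), g j := Finset.sum_Ico_consecutive g (hm n) hle
      rw [h1, ← hg]
      show g n - ((∑ j ∈ Finset.Ico n (m n), g j) - _) = _
      rw [sub_sub_eq_add_sub, ← e1, ← e2, add_sub_cancel_left]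
    rw [h2]
    refine sum_mem fun j hj => ?_
    simp only [g, dif_pos ((hm n).trans (Finset.mem_Ico.1 hj).1)]
    exact hEle n j (Finset.mem_Ico.1 hj).1 (y j)
  have hw : ∀ (n : ℕ) (v : E n), ∃ v' : E (n + 1),
      trans F U (Nat.le_succ n) v'.1 = v.1 - (y n - (zz n - trans F U (Nat.le_succ n) (zz (n + 1)))) := fun n v => by
    obtain ⟨e', he', h⟩ := hsurj n _ (sub_mem v.2 (herr n))
    exact ⟨⟨e', he'⟩, h⟩
  choose w hw' using hw
  let v : ∀ n, E n := fun n => Nat.rec 0 (fun i r => w i r) n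
  refine ⟨fun n => zz n + (v n).1, fun n => ?_⟩
  show zz n + (v n).1 - trans F U (Nat.le_succ n) (zz (n + 1) + (w n (v n)).1) = y n
  rw [map_add, hw']
  abel

theorem isZero_limOneSh_of_ml (hF : ∀ n : ℕ, Coh.IsQCoh (F.obj (op n)))
    (hML : ∀ n : ℕ, ∃ (m : ℕ) (hm : n ≤ m), ∀ (m' : ℕ) (hm' : m ≤ m'),
      imageSubobject (F.map (homOfLE (hm.trans hm')).op) = imageSubobject (F.map (homOfLE hm).op)) :
    IsZero (LimSh.limOneSh F) := by
  haveI : Epi (LimSh.towerDiffSh F) := by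
    rw [M1.epi_iff_locally_surjective]
    intro U t x hx
    obtain ⟨W, hW, hxW, hWU⟩ := Opens.isBasis_iff_nbhd.1 X.isBasis_affineOpens hx
    obtain ⟨z, hz⟩ := exists_diff_eq F W (fun n => ml_sections F hF hML hW n)
      fun n => (Pi.π (fun n : ℕ => F.obj (op n)) n).app W (M1.mres _ hWU t)
    obtain ⟨η, hη⟩ := exists_prod_section (fun n : ℕ => F.obj (op n)) W z
    exact ⟨W, hWU, hxW, η, ext_prod _ _ fun n => by rw [π_app_towerDiffSh, hη, hη]; exact hz n⟩
  exact IsZero.of_iso (isZero_zero _) (cokernel.ofEpi (LimSh.towerDiffSh F))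

end

end Groth.Agent.CountLim15
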